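import Mathlib
import Groth.Agent.WQ7.Galois

/-!
# Regular pairs: flat transfer, reducedness and integral closedness
-/

set_option autoImplicit false
set_option linter.style.haveILetI false
set_option linter.unusedSectionVars false

universe u

open IsLocalRing
open scoped Pointwise

noncomputable section

namespace Groth.Agent.RatCompl

variable {R : Type u} [CommRing R]

/-- A regular pair of elements. -/
structure Pair (f g : R) : Prop where
  reg : ∀ c, f * c = 0 → c = 0
  next : ∀ c, f ∣ g * c → f ∣ c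

theorem mk_eq_zero_iff (f x : R) : (Submodule.Quotient.mk x : QuotSMulTop f R) = 0 ↔ f ∣ x := by
  show (Submodule.Quotient.mk x : R ⧸ (f • ⊤ : Submodule R R)) = 0 ↔ _
  rw [Submodule.Quotient.mk_eq_zero, Submodule.mem_smul_pointwise_iff_exists]
  exact ⟨fun ⟨y, _, hy⟩ => ⟨y, hy.symm⟩, fun ⟨y, hy⟩ => ⟨y, Submodule.mem_top, hy.symm⟩⟩

theorem pair_iff_isWeaklyRegular (f g : R) : Pair f g ↔ RingTheory.Sequence.IsWeaklyRegular R [f, g] := by
  rw [RingTheory.Sequence.isWeaklyRegular_cons_iff, RingTheory.Sequence.isWeaklyRegular_singleton_iff]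
  have h1 : IsSMulRegular R f ↔ ∀ c, f * c = 0 → c = 0 := isSMulRegular_iff_right_eq_zero_of_smul
  have h2 : IsSMulRegular (QuotSMulTop f R) g ↔ ∀ c, f ∣ g * c → f ∣ c := by
    rw [isSMulRegular_iff_right_eq_zero_of_smul]
    constructor
    · intro h c hc
      rw [← mk_eq_zero_iff]
      refine h _ ?_
      rw [← Submodule.Quotient.mk_smul, mk_eq_zero_iff]
      exact hc
    · intro h x hx
      obtain ⟨c, rfl⟩ := Submodule.Quotient.mk_surjective _ x
      rw [← Submodule.Quotient.mk_smul, mk_eq_zero_iff] at hx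
      rw [mk_eq_zero_iff]
      exact h c hx
  exact ⟨fun h => ⟨h1.2 h.1, h2.2 h.2⟩, fun h => ⟨h1.1 h.1, h2.1 h.2⟩⟩

/-- Regular pairs stay regular along flat maps. -/
theorem Pair.map {S : Type u} [CommRing S] [Algebra R S] [Module.Flat R S] {f g : R} (h : Pair f g) :
    Pair (algebraMap R S f) (algebraMap R S g) :=
  (pair_iff_isWeaklyRegular _ _).2 (((pair_iff_isWeaklyRegular _ _).1 h).of_flat)

theorem Pair.dvd_pow {f g : R} (h : Pair f g) (m : ℕ) {c : R} (hc : f ∣ g ^ m * c) : f ∣ c := by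
  induction m with
  | zero => simpa using hc
  | succ m ih => exact ih (h.next _ (by rwa [← mul_assoc, ← pow_succ']))

theorem Pair.pow_dvd {f g : R} (h : Pair f g) (n m : ℕ) {c : R} (hc : f ^ n ∣ g ^ m * c) : f ^ n ∣ c := by
  induction n generalizing c with
  | zero => simp
  | succ n ih =>
    obtain ⟨c', rfl⟩ := h.dvd_pow m ((dvd_pow_self f n.succ_ne_zero).trans hc)
    obtain ⟨d, hd⟩ := hc
    have e : g ^ m * c' = f ^ n * d := sub_eq_zero.1 (h.reg _ (by linear_combination hd))
    exact pow_succ' f n ▸ mul_dvd_mul_left f (ih ⟨d, e⟩)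

theorem Pair.pow_reg {f g : R} (h : Pair f g) (n : ℕ) {c : R} (hc : f ^ n * c = 0) : c = 0 := by
  induction n with
  | zero => simpa using hc
  | succ n ih => exact ih (h.reg _ (by rwa [← mul_assoc, ← pow_succ']))

variable [IsLocalRing R]

/-- An ideal in no nonmaximal prime contains powers of the maximal ideal's elements. -/
theorem exists_pow_mem {I : Ideal R} (h : ∀ p : Ideal R, p.IsPrime → p ≠ maximalIdeal R → ¬ I ≤ p) {f : R}
    (hf : f ∈ maximalIdeal R) : ∃ n, f ^ n ∈ I := by
  refine Ideal.mem_radical_iff.1 ?_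
  rw [Ideal.radical_eq_sInf, Submodule.mem_sInf]
  rintro p ⟨hIp, hp⟩
  by_cases hpm : p = maximalIdeal R
  · exact hpm ▸ hf
  · exact absurd hIp (h p hp hpm)

/-- A regular pair and reducedness off the closed point give reducedness. -/
theorem isReduced_of_pair {f g : R} (hp : Pair f g) (hf : f ∈ maximalIdeal R)
    (h : ∀ p : Ideal R, p.IsPrime → p ≠ maximalIdeal R → ∀ x : R, IsNilpotent x → ∃ s ∉ p, s * x = 0) :
    IsReduced R := by
  refine ⟨fun x hx => ?_⟩
  obtain ⟨n, hn⟩ := exists_pow_mem (I := LinearMap.ker (LinearMap.toSpanSingleton R R x)) (fun p hp' hpm hle => by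
    obtain ⟨s, hs, hsx⟩ := h p hp' hpm x hx
    exact hs (hle (by rw [LinearMap.mem_ker, LinearMap.toSpanSingleton_apply, smul_eq_mul, hsx]))) hf
  exact hp.pow_reg n (by rwa [LinearMap.mem_ker, LinearMap.toSpanSingleton_apply, smul_eq_mul] at hn)

/-- A regular pair and normality off the closed point give normality. -/
theorem isIntegrallyClosed_of_pair [IsDomain R] {f g : R} (hp : Pair f g) (hf : f ∈ maximalIdeal R)
    (hg : g ∈ maximalIdeal R)
    (h : ∀ p : Ideal R, p.IsPrime → p ≠ maximalIdeal R → ∀ z : FractionRing R, IsIntegral R z →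
      ∃ s ∉ p, ∃ r : R, algebraMap R (FractionRing R) s * z = algebraMap R (FractionRing R) r) :
    IsIntegrallyClosed R := by
  refine (isIntegrallyClosed_iff (FractionRing R)).2 fun {z} hz => ?_
  let ι := algebraMap R (FractionRing R)
  let I : Ideal R :=
    { carrier := {s | ∃ r, ι s * z = ι r}
      add_mem' := by
        rintro a b ⟨r, hr⟩ ⟨r', hr'⟩
        exact ⟨r + r', by rw [map_add, map_add, add_mul, hr, hr']⟩
      zero_mem' := ⟨0, by rw [map_zero, zero_mul]⟩
      smul_mem' := by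
        rintro c a ⟨r, hr⟩
        exact ⟨c * r, by rw [smul_eq_mul, map_mul, map_mul, mul_assoc, hr]⟩ }
  have hI : ∀ p : Ideal R, p.IsPrime → p ≠ maximalIdeal R → ¬ I ≤ p := fun p hp' hpm hle => by
    obtain ⟨s, hs, hsr⟩ := h p hp' hpm z hz
    exact hs (hle hsr)
  obtain ⟨n, u, hu⟩ := exists_pow_mem hI hf
  obtain ⟨m, v, hv⟩ := exists_pow_mem hI hg
  have e : g ^ m * u = f ^ n * v := IsFractionRing.injective R (FractionRing R) (by
    rw [map_mul, map_mul]
    linear_combination (-(ι (g ^ m))) * hu + ι (f ^ n) * hv)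
  obtain ⟨w, rfl⟩ := hp.pow_dvd n m ⟨v, e⟩
  rcases eq_or_ne f 0 with rfl | hf0
  · haveI : Subsingleton R := ⟨fun a b => by
      rw [hp.reg a (zero_mul a), hp.reg b (zero_mul b)]⟩
    exact absurd rfl (zero_ne_one (α := R) ∘ fun _ : (0 : R) = 0 => Subsingleton.elim _ _)
  refine ⟨w, mul_left_cancel₀ ((map_ne_zero_iff _ (IsFractionRing.injective R (FractionRing R))).2
    (pow_ne_zero n hf0)) ?_⟩
  rw [← map_mul]
  exact hu.symm

/-- A normal local domain of dimension at least two has a regular pair. -/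
theorem exists_pair [IsDomain R] [IsNoetherianRing R] [IsIntegrallyClosed R] (hdim : 1 < ringKrullDim R) :
    ∃ f g : R, f ∈ maximalIdeal R ∧ g ∈ maximalIdeal R ∧ Pair f g := by
  classical
  have hbot : maximalIdeal R ≠ ⊥ := fun h => by
    rw [ringKrullDim_eq_zero_of_isField (IsLocalRing.isField_iff_maximalIdeal_eq.2 h)] at hdim
    exact absurd hdim (by decide)
  obtain ⟨f, hf, hf0⟩ := Submodule.exists_mem_ne_zero_of_ne_bot hbot
  have hfin := Ideal.finite_minimalPrimes_of_isNoetherianRing R (Ideal.span {f})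
  have hnot : ¬ (maximalIdeal R : Set R) ⊆ ⋃ p ∈ (hfin.toFinset : Set (Ideal R)), (p : Set R) := fun hsub => by
    obtain ⟨p, hp, hle⟩ := (Ideal.subset_union_prime (f := fun p : Ideal R => p) ⊥ ⊥
      (fun p hp _ _ => (hfin.mem_toFinset.1 hp).1.1)).1 hsub
    have hp' := hfin.mem_toFinset.1 hp
    haveI := hp'.1.1
    have h1 := Ideal.height_le_one_of_isPrincipal_of_mem_minimalPrimes (Ideal.span {f}) p hp'
    rw [show p = maximalIdeal R from le_antisymm (le_maximalIdeal hp'.1.1.ne_top) hle] at h1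
    rw [← IsLocalRing.maximalIdeal_height_eq_ringKrullDim] at hdim
    exact absurd (WithBot.coe_lt_coe.1 hdim) (not_lt.2 h1)
  obtain ⟨g, hg, hgn⟩ := Set.not_subset.1 hnot
  refine ⟨f, g, hf, hg, ⟨fun c hc => (mul_eq_zero.1 hc).resolve_left hf0, fun c hc => ?_⟩⟩
  refine WQ7.dvd_of_height_le_one hf0 fun q hq hq1 => ?_
  by_cases hfq : f ∈ q
  · refine ⟨g, fun hgq => hgn ?_, hc⟩
    haveI := hq
    obtain ⟨p, hp, hpq⟩ := Ideal.exists_minimalPrimes_le (J := q) ((Ideal.span_singleton_le_iff_mem _).2 hfq)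
    have hpbot : p ≠ ⊥ := fun h => hf0 (by simpa [h] using hp.1.2 (Ideal.subset_span rfl : f ∈ Ideal.span {f}))
    have hpq' : p = q := by
      refine hpq.eq_or_lt.resolve_right fun hlt => ?_
      haveI := hp.1.1
      have h1 : p.height ≠ 0 := fun h => hpbot (Ideal.height_eq_zero_iff_eq_bot.1 h)
      have h2 := Ideal.height_strict_mono_of_isPrime hlt
      exact h1 (Order.lt_one_iff.1 (h2.trans_le hq1))
    exact Set.mem_biUnion (x := q) (hfin.mem_toFinset.2 (hpq' ▸ hp)) hgq
  · exact ⟨f, hfq, dvd_mul_right f c⟩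

end Groth.Agent.RatCompl
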