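import Mathlib
import Groth.Agent.CplRegular.Stalk

/-!
# Points of the closed fibre of an unramified base change with the same residue field
-/

set_option autoImplicit false
set_option linter.style.haveILetI false
set_option maxHeartbeats 800000

universe u

open CategoryTheory CategoryTheory.Limits AlgebraicGeometry IsLocalRing TensorProduct
open Groth.Agent.CplRegular (MapMax mapMax_of_iso mapMax_Spec)

noncomputable section

namespace Groth.Agent.RatCompl

/-- The maximal ideal extends and residues lift. -/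
def Unr {R S : CommRingCat.{u}} [IsLocalRing R] [IsLocalRing S] (g : R ⟶ S) : Prop :=
  MapMax g ∧ ∀ s : S, ∃ r : R, s - g r ∈ maximalIdeal S

theorem unr_of_iso {R S R' S' : CommRingCat.{u}} [IsLocalRing R] [IsLocalRing S] [IsLocalRing R'] [IsLocalRing S']
    (g : R ⟶ S) (g' : R' ⟶ S') (a : R ≅ R') (b : S ≅ S') (h : a.hom ≫ g' = g ≫ b.hom) (hg : Unr g) :
    Unr g' := by
  refine ⟨mapMax_of_iso g g' a b h hg.1, fun s => ?_⟩
  obtain ⟨r, hr⟩ := hg.2 (b.inv s)
  refine ⟨a.hom r, ?_⟩
  have e : g' (a.hom r) = b.hom (g r) := congrArg (fun k => k r) h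
  have hb : (maximalIdeal S).map b.hom.hom = maximalIdeal S' :=
    eq_maximalIdeal (Ideal.map_isMaximal_of_equiv b.commRingCatIsoToRingEquiv)
  have h1 := Ideal.mem_map_of_mem b.hom.hom hr
  rw [hb, map_sub] at h1
  rw [e]
  convert h1 using 2
  exact (congrArg (fun k => k s) b.inv_hom_id).symm

theorem unr_Spec {B T : CommRingCat.{u}} (φ : B ⟶ T) (Q : PrimeSpectrum T)
    (hQ : Q.asIdeal = (Q.asIdeal.comap φ.hom).map φ.hom) (hres : ∀ t : T, ∃ b : B, t - φ b ∈ Q.asIdeal) :
    Unr ((Spec.map φ).stalkMap Q) := by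
  let e := Scheme.arrowStalkMapSpecIso φ Q
  let p : PrimeSpectrum B := PrimeSpectrum.comap φ.hom Q
  let r := Localization.localRingHom p.asIdeal Q.asIdeal φ.hom rfl
  refine unr_of_iso (R := CommRingCat.of (Localization.AtPrime p.asIdeal))
    (S := CommRingCat.of (Localization.AtPrime Q.asIdeal)) (CommRingCat.ofHom r) ((Spec.map φ).stalkMap Q)
    (Arrow.leftFunc.mapIso e).symm (Arrow.rightFunc.mapIso e).symm e.inv.w
    ⟨mapMax_of_iso ((Spec.map φ).stalkMap Q) (CommRingCat.ofHom r)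
      (Arrow.leftFunc.mapIso e) (Arrow.rightFunc.mapIso e) e.hom.w (mapMax_Spec φ Q hQ), fun s => ?_⟩
  obtain ⟨⟨t, u⟩, rfl⟩ := IsLocalization.mk'_surjective Q.asIdeal.primeCompl (show Localization.AtPrime Q.asIdeal from s)
  obtain ⟨b, hb⟩ := hres t
  obtain ⟨b', hb'⟩ := hres u
  have hb'p : b' ∈ p.asIdeal.primeCompl := fun h => u.2 (by
    have := Q.asIdeal.add_mem hb' (show φ b' ∈ Q.asIdeal from h)
    rwa [sub_add_cancel] at this)
  refine ⟨IsLocalization.mk' _ b (⟨b', hb'p⟩ : p.asIdeal.primeCompl), ?_⟩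
  show IsLocalization.mk' _ t u - r (IsLocalization.mk' _ b _) ∈ maximalIdeal (Localization.AtPrime Q.asIdeal)
  rw [Localization.localRingHom_mk', ← IsLocalization.mk'_sub, IsLocalization.AtPrime.mk'_mem_maximal_iff _ Q.asIdeal]
  show t * φ b' - φ b * (u : T) ∈ Q.asIdeal
  rw [show t * φ b' - φ b * (u : T) = (t - φ b) * φ b' - φ b * ((u : T) - φ b') by ring]
  exact Q.asIdeal.sub_mem (Ideal.mul_mem_right _ _ hb) (Ideal.mul_mem_left _ _ hb')

variable (A : Type u) [CommRing A] [IsLocalRing A] (C : Type u) [CommRing C] [Algebra A C]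
  (hC : ∀ c : C, ∃ a : A, c - algebraMap A C a ∈ (maximalIdeal A).map (algebraMap A C))

include hC

theorem tensor_rep (B : Type u) [CommRing B] [Algebra A B] (Q : Ideal (B ⊗[A] C))
    (hA : (maximalIdeal A).map (algebraMap A B) ≤
      Q.comap (Algebra.TensorProduct.includeLeftRingHom : B →+* B ⊗[A] C)) (z : B ⊗[A] C) :
    ∃ b : B, z - (Algebra.TensorProduct.includeLeftRingHom : B →+* B ⊗[A] C) b ∈
      (Q.comap (Algebra.TensorProduct.includeLeftRingHom : B →+* B ⊗[A] C)).map
        (Algebra.TensorProduct.includeLeftRingHom : B →+* B ⊗[A] C) := by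
  set ι := (Algebra.TensorProduct.includeLeftRingHom : B →+* B ⊗[A] C)
  have hm : ∀ (x : B) (c : C), c ∈ (maximalIdeal A).map (algebraMap A C) → x ⊗ₜ[A] c ∈ (Q.comap ι).map ι := by
    intro x c hc
    refine Submodule.span_induction (p := fun y _ => ∀ x : B, x ⊗ₜ[A] y ∈ (Q.comap ι).map ι) ?_ ?_ ?_ ?_ hc x
    · rintro _ ⟨a, ha, rfl⟩ x
      rw [show x ⊗ₜ[A] algebraMap A C a = ι (algebraMap A B a * x) by
        show x ⊗ₜ[A] algebraMap A C a = (algebraMap A B a * x) ⊗ₜ[A] (1 : C)
        rw [← Algebra.smul_def, Algebra.algebraMap_eq_smul_one, ← TensorProduct.smul_tmul]]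
      exact Ideal.mem_map_of_mem _ (Ideal.mul_mem_right _ _ (hA (Ideal.mem_map_of_mem _ ha)))
    · intro x
      rw [TensorProduct.tmul_zero]
      exact zero_mem _
    · intro y y' _ _ h h' x
      rw [TensorProduct.tmul_add]
      exact add_mem (h x) (h' x)
    · intro r y _ h x
      rw [smul_eq_mul, show x ⊗ₜ[A] (r * y) = ((1 : B) ⊗ₜ[A] r) * (x ⊗ₜ[A] y) by simp]
      exact Ideal.mul_mem_left _ _ (h x)
  induction z using TensorProduct.induction_on with
  | zero => exact ⟨0, by simp⟩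
  | tmul x c =>
    obtain ⟨a, ha⟩ := hC c
    refine ⟨a • x, ?_⟩
    rw [show x ⊗ₜ[A] c - ι (a • x) = x ⊗ₜ[A] (c - algebraMap A C a) by
      rw [TensorProduct.tmul_sub, Algebra.algebraMap_eq_smul_one, ← TensorProduct.smul_tmul]; rfl]
    exact hm _ _ ha
  | add x y hx hy =>
    obtain ⟨b, hb⟩ := hx
    obtain ⟨b', hb'⟩ := hy
    exact ⟨b + b', by rw [map_add, add_sub_add_comm]; exact add_mem hb hb'⟩

theorem tensor_eq (B : Type u) [CommRing B] [Algebra A B] (Q : Ideal (B ⊗[A] C))
    (hA : (maximalIdeal A).map (algebraMap A B) ≤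
      Q.comap (Algebra.TensorProduct.includeLeftRingHom : B →+* B ⊗[A] C)) :
    Q = (Q.comap (Algebra.TensorProduct.includeLeftRingHom : B →+* B ⊗[A] C)).map
      (Algebra.TensorProduct.includeLeftRingHom : B →+* B ⊗[A] C) := by
  set ι := (Algebra.TensorProduct.includeLeftRingHom : B →+* B ⊗[A] C)
  refine le_antisymm (fun z hz => ?_) Ideal.map_comap_le
  obtain ⟨b, hb⟩ := tensor_rep A C hC B Q hA z
  have hbQ : ι b ∈ Q := by
    have := Q.sub_mem hz (Ideal.map_comap_le hb)
    rwa [sub_sub_cancel] at this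
  have := add_mem hb (Ideal.mem_map_of_mem ι (show b ∈ Q.comap ι from hbQ))
  rwa [sub_add_cancel] at this

/-- Stalk maps of the base change at points over the closed point are unramified with the same residues. -/
theorem unr_fst {X : Scheme.{u}} (f : X ⟶ Spec (CommRingCat.of A))
    (y : ↥(pullback f (Spec.map (CommRingCat.ofHom (algebraMap A C)))))
    (hy : f (pullback.fst f (Spec.map (CommRingCat.ofHom (algebraMap A C))) y) = closedPoint A) :
    Unr ((pullback.fst f (Spec.map (CommRingCat.ofHom (algebraMap A C)))).stalkMap y) := by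
  let c := Spec.map (CommRingCat.ofHom (algebraMap A C))
  let x := pullback.fst f c y
  let R := Γ(X, (exists_isAffineOpen_mem_and_subset (X := X) (x := x) (U := ⊤) trivial).choose)
  obtain ⟨hU, hxU, -⟩ := (exists_isAffineOpen_mem_and_subset (X := X) (x := x) (U := ⊤) trivial).choose_spec
  let j := hU.fromSpec
  obtain ⟨P, hP⟩ : x ∈ Set.range j := by rw [hU.range_fromSpec]; exact hxU
  obtain ⟨φ, hφ⟩ := Spec.map_surjective (j ≫ f)
  algebraize [φ.hom]
  let ι : CommRingCat.of R ⟶ CommRingCat.of (R ⊗[A] C) := CommRingCat.ofHom Algebra.TensorProduct.includeLeftRingHom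
  let e : Spec (CommRingCat.of (R ⊗[A] C)) ⟶ pullback f c :=
    (pullbackSpecIso A R C).inv ≫ pullback.map (Spec.map φ) c f c j (𝟙 _) (𝟙 _) (by rw [Category.comp_id, hφ]) (by simp)
  haveI : IsOpenImmersion e := inferInstanceAs (IsOpenImmersion ((pullbackSpecIso A R C).inv ≫ _))
  have he : e ≫ pullback.fst f c = Spec.map ι ≫ j := by
    rw [Category.assoc, pullback.lift_fst, ← Category.assoc]
    congr 1
    exact pullbackSpecIso_inv_fst A R C
  have hy' : y ∈ Set.range e := by
    rw [Scheme.Hom.comp_base, TopCat.coe_comp, Set.range_comp, Set.range_eq_univ.mpr ((pullbackSpecIso A R C).inv.surjective),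
      Set.image_univ, Scheme.Pullback.range_map]
    exact ⟨⟨P, hP⟩, ⟨_, rfl⟩⟩
  obtain ⟨Q, hQy⟩ := hy'
  rw [← hQy] at hy ⊢
  have hQ : (maximalIdeal A).map (algebraMap A R) ≤
      (Q : PrimeSpectrum (R ⊗[A] C)).asIdeal.comap (Algebra.TensorProduct.includeLeftRingHom : R →+* R ⊗[A] C) := by
    have h1 : f (j (Spec.map ι Q)) = closedPoint A := by
      rw [← Scheme.Hom.comp_apply (Spec.map ι) j, ← he, Scheme.Hom.comp_apply]
      exact hy
    rw [← Scheme.Hom.comp_apply j f, ← hφ] at h1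
    rw [Ideal.map_le_iff_le_comap]
    exact (congrArg PrimeSpectrum.asIdeal h1).ge
  have hmm : Unr ((Spec.map ι).stalkMap Q) := unr_Spec ι Q (tensor_eq A C hC R _ hQ) fun t => by
    obtain ⟨b, hb⟩ := tensor_rep A C hC R _ hQ t
    exact ⟨b, Ideal.map_comap_le hb⟩
  have key : Unr ((e ≫ pullback.fst f c).stalkMap Q) := by
    have : Unr ((Spec.map ι ≫ j).stalkMap Q) := by
      refine unr_of_iso _ _ (asIso (j.stalkMap (Spec.map ι Q))).symm (Iso.refl _) ?_ hmm
      rw [Scheme.Hom.stalkMap_comp]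
      simp
    exact unr_of_iso _ _ ((X.presheaf.stalkCongr (.of_eq (by rw [he])))) (Iso.refl _)
      (by rw [Scheme.Hom.stalkMap_congr_hom _ _ he Q]; simp) this
  refine unr_of_iso _ _ (Iso.refl _) (asIso (e.stalkMap Q)).symm ?_ key
  rw [Scheme.Hom.stalkMap_comp]
  simp
  rfl

end Groth.Agent.RatCompl
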