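import Mathlib
import Groth.Agent.RatCompl.Alg
import Groth.Agent.RatCompl.Fibre
import Groth.Agent.FibrePP.Points
import Groth.Agent.H23.StalkPrimes
import Groth.Agent.FlatLoc6.SerreNormal
import Groth.Agent.FlatLoc6.Rk
import Groth.Agent.RegLoc6.Normal
import Groth.Agent.RatSing.Rational
import Groth.Agent.ExistEasy.PP.HatLemmas

/-!
# Unramified flat base change of a normal modification is normal
-/

set_option autoImplicit false
set_option linter.style.haveILetI false
set_option linter.unusedSectionVars false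
set_option backward.isDefEq.respectTransparency false
set_option backward.isDefEq.respectTransparency.types false
set_option maxHeartbeats 800000

universe u

open CategoryTheory CategoryTheory.Limits AlgebraicGeometry TopologicalSpace IsLocalRing
open Groth.Agent.CplRegular (MapMax)
open Groth.Agent.H23.StalkPrimes Groth.Agent.CDiv6

noncomputable section

namespace Groth.Agent.RatCompl

/-- A local ring of dimension at most two has localizations of dimension at most one at other primes. -/
theorem dim_le_one {R S : Type u} [CommRing R] [IsLocalRing R] [IsNoetherianRing R] [CommRing S] [Algebra R S]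
    (hdim : ringKrullDim R ≤ 2) {p : Ideal R} [p.IsPrime] [IsLocalization.AtPrime S p] (hp : p ≠ maximalIdeal R) :
    ringKrullDim S ≤ 1 := by
  have hlt : p < maximalIdeal R := lt_of_le_of_ne (le_maximalIdeal (Ideal.IsPrime.ne_top ‹_›)) hp
  have h1 : p.height + 1 ≤ (maximalIdeal R).height := Order.add_one_le_of_lt (Ideal.height_strict_mono_of_isPrime hlt)
  have h2 : (maximalIdeal R).height ≤ 2 :=
    WithBot.coe_le_coe.1 ((maximalIdeal_height_eq_ringKrullDim (R := R)).trans_le hdim)
  rw [IsLocalization.AtPrime.ringKrullDim_eq_height p S]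
  exact WithBot.coe_le_coe.2 ((WithTop.add_le_add_iff_right (by simp : (1 : ℕ∞) ≠ ⊤)).1
    ((h1.trans h2).trans_eq (by rfl)))

/-- Structure maps of stalks commute with base change. -/
theorem ι_compat {A R : Type u} [CommRing A] [CommRing R] {X Y : Scheme.{u}} (p : Y ⟶ X)
    (b : X ⟶ Spec (CommRingCat.of A)) (q : Y ⟶ Spec (CommRingCat.of R)) (φ : A →+* R)
    (h : p ≫ b = q ≫ Spec.map (CommRingCat.ofHom φ)) (y : Y) (a : A) :
    p.stalkMap y (FibrePP.ι b (p y) a) = FibrePP.ι q y (φ a) := by
  have h1 : CommRingCat.ofHom (FibrePP.ι b (p y)) ≫ p.stalkMap y =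
      CommRingCat.ofHom φ ≫ CommRingCat.ofHom (FibrePP.ι q y) := by
    apply Spec.map_injective
    rw [Spec.map_comp, Spec.map_comp, FibrePP.specMap_ι, FibrePP.specMap_ι, Category.assoc, ← h,
      Scheme.SpecMap_stalkMap_fromSpecStalk_assoc]
  exact congrArg (fun k => k.hom a) h1

/-- Flat maps carrying the maximal ideal onto the maximal ideal preserve the dimension. -/
theorem dim_eq_of_mapMax {S T : CommRingCat.{u}} [IsLocalRing S] [IsLocalRing T] [IsNoetherianRing S]
    [IsNoetherianRing T] (g : S ⟶ T) [hl : IsLocalHom g.hom] (hfl : g.hom.Flat) (h : MapMax g) :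
    ringKrullDim T = ringKrullDim S := by
  letI := g.hom.toAlgebra
  haveI : Module.Flat S T := hfl
  haveI : IsLocalHom (algebraMap S T) := hl
  haveI : (maximalIdeal T).LiesOver (maximalIdeal S) := ⟨(maximalIdeal_comap (algebraMap S T)).symm⟩
  have key := Ideal.height_eq_height_add_of_liesOver_of_hasGoingDown (maximalIdeal S) (maximalIdeal T)
  rw [show (maximalIdeal S).map (algebraMap S T) = maximalIdeal T from h, Ideal.map_quotient_self,
    show (⊥ : Ideal (T ⧸ maximalIdeal T)).height = 0 from Ideal.height_bot, add_zero] at key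
  rw [← maximalIdeal_height_eq_ringKrullDim, ← maximalIdeal_height_eq_ringKrullDim, key]

/-- Flat maps carrying the maximal ideal onto the maximal ideal preserve regularity. -/
theorem regular_of_mapMax {S T : CommRingCat.{u}} [IsRegularLocalRing S] [IsLocalRing T] [IsNoetherianRing T]
    (g : S ⟶ T) [hl : IsLocalHom g.hom] (hfl : g.hom.Flat) (h : MapMax g) : IsRegularLocalRing T := by
  letI := g.hom.toAlgebra
  haveI : Module.Flat S T := hfl
  haveI : IsLocalHom (algebraMap S T) := hl
  refine FlatLoc6.isRegularLocalRing_of_flat_fibre (A := S) ?_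
  rw [show (maximalIdeal S).map (algebraMap S T) = maximalIdeal T from h]
  exact RegLoc6.isRegularLocalRing_of_isField (Ideal.Quotient.field _).toIsField

variable {A R : Type u} [CommRing A] [CommRing R] [Algebra A R] [IsDomain A] [IsLocalRing A] [IsLocalRing R]
  [IsNoetherianRing A] [IsNoetherianRing R] [IsDomain R] [IsIntegrallyClosed R] [Module.Flat A R]
  (hmax : (maximalIdeal A).map (algebraMap A R) = maximalIdeal R)
  (hres : ∀ r : R, ∃ a : A, r - algebraMap A R a ∈ maximalIdeal R)
  (hdA : ringKrullDim A = 2) (hdR : ringKrullDim R = 2)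
  {X : Scheme.{u}} [IsIntegral X] (b : X ⟶ Spec (CommRingCat.of A)) [IsProper b] (hXn : Pi1.IsNormalScheme X)
  (hX2 : ∀ x : X, ringKrullDim (X.presheaf.stalk x) ≤ 2)
  {U : (Spec (CommRingCat.of A)).Opens} (hU : (U : Set ↥(Spec (CommRingCat.of A))).Nonempty) [IsIso (b ∣_ U)]
  (hUc : ∀ t : ↥(Spec (CommRingCat.of A)), t ∉ U → t = closedPoint A)

/-- The morphism of spectra. -/
abbrev cR (A R : Type u) [CommRing A] [CommRing R] [Algebra A R] : Spec (CommRingCat.of R) ⟶ Spec (CommRingCat.of A) :=
  Spec.map (CommRingCat.ofHom (algebraMap A R))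

instance flat_cR : Flat (cR A R) := by
  rw [cR, HasRingHomProperty.Spec_iff (P := @Flat)]
  exact RingHom.flat_algebraMap_iff.2 inferInstance

instance isLocallyNoetherian_bc : IsLocallyNoetherian (pullback b (cR A R)) :=
  LocallyOfFiniteType.isLocallyNoetherian (pullback.snd b (cR A R))

include hmax in
theorem eq_closedPoint {t : ↥(Spec (CommRingCat.of R))} (h : cR A R t = closedPoint A) : t = closedPoint R := by
  refine PrimeSpectrum.ext (le_antisymm (le_maximalIdeal t.2.ne_top) ?_)
  show maximalIdeal R ≤ _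
  rw [← hmax, Ideal.map_le_iff_le_comap]
  exact (congrArg PrimeSpectrum.asIdeal h).ge

theorem cR_closedPoint (hmax : (maximalIdeal A).map (algebraMap A R) = maximalIdeal R) :
    cR A R (closedPoint R) = closedPoint A := by
  refine PrimeSpectrum.ext (le_antisymm (le_maximalIdeal ?_) ?_)
  · exact Ideal.comap_ne_top _ (maximalIdeal.isMaximal R).ne_top
  · show maximalIdeal A ≤ (maximalIdeal R).comap (algebraMap A R)
    rw [← Ideal.map_le_iff_le_comap, hmax]

include hmax in
theorem fst_over {y : ↥(pullback b (cR A R))} :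
    b (pullback.fst b (cR A R) y) = closedPoint A ↔ pullback.snd b (cR A R) y = closedPoint R := by
  rw [← Scheme.Hom.comp_apply, pullback.condition, Scheme.Hom.comp_apply]
  exact ⟨eq_closedPoint hmax, fun h => by rw [h]; exact cR_closedPoint hmax⟩

/-- The part of the base over which the base change is an isomorphism. -/
abbrev U' : (Spec (CommRingCat.of R)).Opens := cR A R ⁻¹ᵁ U

include hmax hUc in
theorem mem_U' {t : ↥(Spec (CommRingCat.of R))} (ht : t ≠ closedPoint R) : t ∈ U' (R := R) (U := U) := by
  by_contra h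
  exact ht (eq_closedPoint hmax (hUc _ h))

instance isIso_snd : IsIso (pullback.snd b (cR A R) ∣_ U' (R := R) (U := U)) :=
  ExistEasy.isIso_restrict_snd b (cR A R) le_rfl

include hmax hUc hdR in
theorem off_fibre {y : ↥(pullback b (cR A R))} (hy : pullback.snd b (cR A R) y ≠ closedPoint R) :
    (IsDomain ((pullback b (cR A R)).presheaf.stalk y) ∧ IsIntegrallyClosed ((pullback b (cR A R)).presheaf.stalk y)) ∧
      ringKrullDim ((pullback b (cR A R)).presheaf.stalk y) ≤ 1 := by
  let q := pullback.snd b (cR A R)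
  have hm := mem_U' (U := U) hmax hUc hy
  haveI : IsIso (q.stalkMap y) :=
    ((MorphismProperty.isomorphisms CommRingCat).arrow_mk_iso_iff
      (morphismRestrictStalkMap q (U' (R := R) (U := U)) ⟨y, hm⟩)).1
      (inferInstanceAs (IsIso ((q ∣_ U' (R := R) (U := U)).stalkMap ⟨y, hm⟩)))
  let e : (Spec (CommRingCat.of R)).presheaf.stalk (q y) ≃+* (pullback b (cR A R)).presheaf.stalk y :=
    (asIso (q.stalkMap y)).commRingCatIsoToRingEquiv
  let t : PrimeSpectrum R := q y
  letI : Algebra R ((Spec (CommRingCat.of R)).presheaf.stalk (q y)) := StructureSheaf.stalkAlgebra R t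
  haveI : IsLocalization.AtPrime ((Spec (CommRingCat.of R)).presheaf.stalk (q y)) t.asIdeal :=
    StructureSheaf.IsLocalization.to_stalk R t
  haveI : IsDomain ((Spec (CommRingCat.of R)).presheaf.stalk (q y)) :=
    IsLocalization.isDomain_of_atPrime _ t.asIdeal
  haveI : IsIntegrallyClosed ((Spec (CommRingCat.of R)).presheaf.stalk (q y)) :=
    isIntegrallyClosed_of_isLocalization _ t.asIdeal.primeCompl t.asIdeal.primeCompl_le_nonZeroDivisors
  refine ⟨⟨e.symm.toMulEquiv.isDomain _, IsIntegrallyClosed.of_equiv e⟩, ?_⟩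
  rw [← ringKrullDim_eq_of_ringEquiv e]
  exact dim_le_one (S := (Spec (CommRingCat.of R)).presheaf.stalk (q y)) hdR.le (p := t.asIdeal)
    fun h => hy (PrimeSpectrum.ext h)

include hmax hres in
/-- The stalk maps at points over the closed point. -/
theorem unr_bc {y : ↥(pullback b (cR A R))} (hy : pullback.snd b (cR A R) y = closedPoint R) :
    Unr ((pullback.fst b (cR A R)).stalkMap y) :=
  unr_fst A R (fun r => by rw [hmax]; exact hres r) b y ((fst_over hmax b).2 hy)

include hmax hres in
theorem on_fibre {y : ↥(pullback b (cR A R))} (hy : pullback.snd b (cR A R) y = closedPoint R) :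
    ringKrullDim ((pullback b (cR A R)).presheaf.stalk y) =
      ringKrullDim (X.presheaf.stalk (pullback.fst b (cR A R) y)) := by
  haveI : IsLocallyNoetherian X := LocallyOfFiniteType.isLocallyNoetherian b
  exact dim_eq_of_mapMax _ (Flat.stalkMap _ y) (unr_bc hmax hres b hy).1

include hmax hres hUc hdR hX2 in
theorem dim_le_two (y : ↥(pullback b (cR A R))) : ringKrullDim ((pullback b (cR A R)).presheaf.stalk y) ≤ 2 := by
  by_cases hy : pullback.snd b (cR A R) y = closedPoint R
  · rw [on_fibre hmax hres b hy]; exact hX2 _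
  · exact (off_fibre hmax hdR b hUc hy).2.trans (by norm_num)

include hmax hres hUc hdR hXn in
theorem normal_low {y : ↥(pullback b (cR A R))} (hd : ringKrullDim ((pullback b (cR A R)).presheaf.stalk y) ≤ 1) :
    IsDomain ((pullback b (cR A R)).presheaf.stalk y) ∧ IsIntegrallyClosed ((pullback b (cR A R)).presheaf.stalk y) := by
  by_cases hy : pullback.snd b (cR A R) y = closedPoint R
  · let p := pullback.fst b (cR A R)
    haveI : IsLocallyNoetherian X := LocallyOfFiniteType.isLocallyNoetherian b
    rw [on_fibre hmax hres b hy] at hd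
    haveI := (hXn (p y)).1
    haveI := (hXn (p y)).2
    haveI : IsRegularLocalRing (X.presheaf.stalk (p y)) := FlatLoc6.regular_of_normal _ hd
    haveI := regular_of_mapMax (p.stalkMap y) (Flat.stalkMap p y) (unr_bc hmax hres b hy).1
    haveI := RegLoc6.isDomain_of_isRegularLocalRing ((pullback b (cR A R)).presheaf.stalk y)
    exact ⟨inferInstance, RegLoc6.isIntegrallyClosed_of_isRegularLocalRing _⟩
  · exact (off_fibre hmax hdR b hUc hy).1

include hmax hres hUc hdR hXn hX2 in
/-- The localizations of a stalk at nonmaximal primes are normal domains. -/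
theorem exists_normal_localization (y : ↥(pullback b (cR A R))) (P : Ideal ((pullback b (cR A R)).presheaf.stalk y))
    [P.IsPrime] (hP : P ≠ maximalIdeal _) :
    ∃ (S : CommRingCat.{u}) (_ : IsDomain S) (_ : IsIntegrallyClosed S)
      (_ : Algebra ((pullback b (cR A R)).presheaf.stalk y) S), IsLocalization.AtPrime S P := by
  obtain ⟨z, hz, rfl⟩ := exists_point P
  letI := ((pullback b (cR A R)).presheaf.stalkSpecializes hz).hom.toAlgebra
  haveI := isLocalization_primeOf hz
  have hd := dim_le_one (S := (pullback b (cR A R)).presheaf.stalk z) (dim_le_two hmax hres hdR b hX2 hUc y) hP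
  obtain ⟨h1, h2⟩ := normal_low hmax hres hdR b hXn hUc hd
  exact ⟨_, h1, h2, _, isLocalization_primeOf hz⟩

include hmax hres hUc hdR hXn hX2 hdA in
theorem exists_pair_bc {y : ↥(pullback b (cR A R))} (hd : ¬ ringKrullDim ((pullback b (cR A R)).presheaf.stalk y) ≤ 1) :
    ∃ f g : (pullback b (cR A R)).presheaf.stalk y, f ∈ maximalIdeal _ ∧ g ∈ maximalIdeal _ ∧ Pair f g := by
  have hy : pullback.snd b (cR A R) y = closedPoint R := by
    by_contra h
    exact hd (off_fibre hmax hdR b hUc h).2
  let p := pullback.fst b (cR A R)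
  haveI : IsLocallyNoetherian X := LocallyOfFiniteType.isLocallyNoetherian b
  haveI := (hXn (p y)).1
  haveI := (hXn (p y)).2
  rw [on_fibre hmax hres b hy] at hd
  obtain ⟨f, g, hf, hg, hfg⟩ := exists_pair (R := X.presheaf.stalk (p y)) (not_le.1 hd)
  letI := (p.stalkMap y).hom.toAlgebra
  haveI : Module.Flat (X.presheaf.stalk (p y)) ((pullback b (cR A R)).presheaf.stalk y) := Flat.stalkMap p y
  have hm := (unr_bc hmax hres b hy).1
  exact ⟨p.stalkMap y f, p.stalkMap y g, hm ▸ Ideal.mem_map_of_mem _ hf, hm ▸ Ideal.mem_map_of_mem _ hg, hfg.map⟩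

include hmax hres hUc hdR hXn hX2 hdA in
theorem isReduced_bc : IsReduced (pullback b (cR A R)) := by
  haveI : ∀ y : ↥(pullback b (cR A R)), _root_.IsReduced ((pullback b (cR A R)).presheaf.stalk y) := fun y => by
    by_cases hd : ringKrullDim ((pullback b (cR A R)).presheaf.stalk y) ≤ 1
    · haveI := (normal_low hmax hres hdR b hXn hUc hd).1
      infer_instance
    · obtain ⟨f, g, hf, -, hfg⟩ := exists_pair_bc hmax hres hdA hdR b hXn hX2 hUc hd
      refine isReduced_of_pair hfg hf fun P hP hPm x hx => ?_
      obtain ⟨S, _, _, _, _⟩ := exists_normal_localization hmax hres hdR b hXn hX2 hUc y P hPm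
      obtain ⟨⟨s, hs⟩, hsx⟩ := (IsLocalization.map_eq_zero_iff P.primeCompl S x).1
        (hx.map (algebraMap _ S)).eq_zero
      exact ⟨s, hs, hsx⟩
  exact isReduced_of_isReduced_stalk _

include hmax hdA hdR hUc hU in
theorem irreducibleSpace_bc : IrreducibleSpace ↥(pullback b (cR A R)) := by
  let q := pullback.snd b (cR A R)
  let p := pullback.fst b (cR A R)
  let D := U' (R := R) (U := U)
  haveI : IsDomain (CommRingCat.of R) := ‹IsDomain R›
  obtain ⟨hgen, -⟩ := RatSing.birational_of_isIso b ⟨U, hU, ‹_›⟩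
  have hne : b (genericPoint X) ≠ closedPoint A := by
    rw [hgen]
    intro h
    exact RatSing.maximalIdeal_ne_bot (A := A) hdA (by
      rw [← show (genericPoint (Spec (CommRingCat.of A))).asIdeal = maximalIdeal A from congrArg PrimeSpectrum.asIdeal h,
        genericPoint_eq_bot_of_affine]
      rfl)
  have hcover : ∀ y, y ∈ closure (q ⁻¹' (D : Set ↥(Spec (CommRingCat.of R)))) := fun y => by
    obtain ⟨z, hzy, hz⟩ := Flat.generalizingMap p (genericPoint_specializes (p y))
    refine hzy.mem_closed isClosed_closure (subset_closure ?_)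
    refine mem_U' hmax hUc fun h => hne ?_
    rw [← hz]
    exact (fst_over hmax b).2 h
  have hnm : maximalIdeal R ≠ ⊥ := RatSing.maximalIdeal_ne_bot (A := R) hdR
  haveI : Nonempty D := by
    refine ⟨⟨⟨⊥, Ideal.isPrime_bot⟩, mem_U' hmax hUc fun h => hnm ?_⟩⟩
    exact (congrArg PrimeSpectrum.asIdeal h).symm
  have hirr : IsIrreducible (q ⁻¹' (D : Set ↥(Spec (CommRingCat.of R)))) := by
    have h1 : q ⁻¹' (D : Set ↥(Spec (CommRingCat.of R))) =
        (fun t : ↥(q ⁻¹ᵁ D : Scheme.{u}) => (q ⁻¹ᵁ D).ι t) '' Set.univ := by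
      rw [Set.image_univ, Scheme.Opens.range_ι]
      rfl
    rw [h1]
    refine IsIrreducible.image ?_ _ (q ⁻¹ᵁ D).ι.continuous.continuousOn
    haveI : IsIntegral (q ⁻¹ᵁ D : Scheme.{u}) := IsIntegral.of_isIso (inv (q ∣_ D))
    exact IrreducibleSpace.isIrreducible_univ _
  rw [irreducibleSpace_def, Set.top_eq_univ, ← Set.eq_univ_of_forall hcover]
  exact hirr.closure

include hmax hres hUc hU hdR hXn hX2 hdA in
/-- The base change is an integral normal scheme. -/
theorem isIntegral_bc : IsIntegral (pullback b (cR A R)) ∧ Pi1.IsNormalScheme (pullback b (cR A R)) := by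
  haveI := isReduced_bc hmax hres hdA hdR b hXn hX2 hUc
  haveI := irreducibleSpace_bc hmax hdA hdR b hU hUc
  haveI hint : IsIntegral (pullback b (cR A R)) := isIntegral_of_irreducibleSpace_of_isReduced _
  refine ⟨hint, fun y => ⟨inferInstance, ?_⟩⟩
  by_cases hd : ringKrullDim ((pullback b (cR A R)).presheaf.stalk y) ≤ 1
  · exact (normal_low hmax hres hdR b hXn hUc hd).2
  · obtain ⟨f, g, hf, hg, hfg⟩ := exists_pair_bc hmax hres hdA hdR b hXn hX2 hUc hd
    refine isIntegrallyClosed_of_pair hfg hf hg fun P hP hPm z hz => ?_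
    obtain ⟨S, _, _, _, _⟩ := exists_normal_localization hmax hres hdR b hXn hX2 hUc y P hPm
    let B := (pullback b (cR A R)).presheaf.stalk y
    let θ : S →+* FractionRing B := IsLocalization.lift (M := P.primeCompl) (g := algebraMap B (FractionRing B))
      fun s => (map_ne_zero_iff _ (IsFractionRing.injective B (FractionRing B))).2 (fun h => s.2 (h ▸ P.zero_mem))
        |> Ne.isUnit
    letI := θ.toAlgebra
    haveI : IsScalarTower B S (FractionRing B) :=
      IsScalarTower.of_algebraMap_eq fun r => (IsLocalization.lift_eq _ r).symm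
    haveI : IsFractionRing S (FractionRing B) :=
      IsFractionRing.isFractionRing_of_isDomain_of_isLocalization P.primeCompl S (FractionRing B)
    obtain ⟨w, hw⟩ := IsIntegrallyClosed.isIntegral_iff.1 (hz.tower_top (A := S))
    obtain ⟨⟨r, s⟩, hrs⟩ := IsLocalization.surj P.primeCompl w
    refine ⟨s, s.2, r, ?_⟩
    rw [← hw, IsScalarTower.algebraMap_apply B S (FractionRing B), ← map_mul, mul_comm, hrs,
      ← IsScalarTower.algebraMap_apply]

end Groth.Agent.RatCompl
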