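import Mathlib
import Groth.Agent.RatUp.Rational

/-!
# Valuation data glue along models with solvable principal parts
-/

set_option autoImplicit false
set_option linter.style.haveILetI false
set_option linter.unusedSectionVars false
set_option backward.isDefEq.respectTransparency false
set_option backward.isDefEq.respectTransparency.types false
set_option maxHeartbeats 800000

universe u

open CategoryTheory CategoryTheory.Limits AlgebraicGeometry TopologicalSpace Filter
open scoped Topology
open Groth.Agent.NormSeq (Model locRing)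
open Groth.Agent.Sol Groth.Agent.RatUp

noncomputable section

namespace Groth.Agent.RatCompl

section Field

variable {K : Type u} [Field K]

/-- A common value of the data over a subring. -/
def Solv {n : ℕ} (E : Fin n → Finset K) (a : Fin n → K) (B : Subring K) : Prop :=
  ∃ h, ∀ V : ValuationSubring K, B ≤ V.toSubring → ∀ k, (∀ e ∈ E k, e ∈ V) → h - a k ∈ V

/-- The data are compatible over a subring and cover it. -/
def Compatible {n : ℕ} (E : Fin n → Finset K) (a : Fin n → K) (B : Subring K) : Prop :=
  (∀ V : ValuationSubring K, B ≤ V.toSubring → ∃ k, ∀ e ∈ E k, e ∈ V) ∧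
    ∀ V : ValuationSubring K, B ≤ V.toSubring → ∀ k l, (∀ e ∈ E k, e ∈ V) → (∀ e ∈ E l, e ∈ V) → a k - a l ∈ V

theorem Compatible.mono {n : ℕ} {E : Fin n → Finset K} {a : Fin n → K} {B B' : Subring K}
    (h : Compatible E a B) (hle : B ≤ B') : Compatible E a B' :=
  ⟨fun V hV => h.1 V (hle.trans hV), fun V hV => h.2 V (hle.trans hV)⟩

theorem ratVal_iff (B : Subring K) :
    RatVal B ↔ ∀ (n : ℕ) (E : Fin n → Finset K) (a : Fin n → K), Compatible E a B → Solv E a B :=
  ⟨fun h n E a hc => h n E a hc.1 hc.2, fun h n E a h1 h2 => h n E a ⟨h1, h2⟩⟩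

/-- A piece containing the whole subring solves the data. -/
theorem solv_of_subset {n : ℕ} {E : Fin n → Finset K} {a : Fin n → K} {B : Subring K}
    (hc : Compatible E a B) {k : Fin n} (hk : ∀ e ∈ E k, e ∈ B) : Solv E a B :=
  ⟨a k, fun V hV l hl => hc.2 V hV k l (fun e he => hV (hk e he)) hl⟩

/-- Valuation rings have no nontrivial data. -/
theorem solv_of_total {n : ℕ} {E : Fin n → Finset K} {a : Fin n → K} {B : Subring K}
    (hc : Compatible E a B) (htot : ∀ x : K, x ∈ B ∨ x⁻¹ ∈ B) : Solv E a B := by
  let V : ValuationSubring K := { B with mem_or_inv_mem' := htot }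
  obtain ⟨k, hk⟩ := hc.1 V le_rfl
  exact solv_of_subset hc hk

/-- Elements of all valuation rings over a subring and a set satisfy an equation involving finitely
many elements of the subring. -/
theorem exists_finset (B : Subring K) (E : Finset K) {c : K}
    (h : ∀ V : ValuationSubring K, B ≤ V.toSubring → (∀ e ∈ E, e ∈ V) → c ∈ V) :
    ∃ S : Finset K, (∀ s ∈ S, s ∈ B) ∧
      ∀ V : ValuationSubring K, (∀ s ∈ S, s ∈ V) → (∀ e ∈ E, e ∈ V) → c ∈ V := by
  classical
  let G : Set K := (B : Set K) ∪ E
  have h1 : c ∈ (⨅ V : {V : ValuationSubring K // G ⊆ V.toSubring}, V.1.toSubring) := by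
    rw [Subring.mem_iInf]
    exact fun V => h V.1 (fun x hx => V.2 (Or.inl hx)) fun e he => V.2 (Or.inr he)
  rw [iInf_valuationSubring_superset] at h1
  obtain ⟨p, hp, hpc⟩ := (mem_integralClosure_iff _ _).1 h1
  have hfin : ∀ x ∈ Subring.closure G, ∃ S : Finset K, (∀ s ∈ S, s ∈ B) ∧
      ∀ V : ValuationSubring K, (∀ s ∈ S, s ∈ V) → (∀ e ∈ E, e ∈ V) → x ∈ V := by
    intro x hx
    induction hx using Subring.closure_induction with
    | mem x hx =>
      rcases hx with hx | hx
      · exact ⟨{x}, by simpa using hx, fun V hS _ => hS x (Finset.mem_singleton_self x)⟩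
      · exact ⟨∅, by simp, fun V _ hE => hE x hx⟩
    | zero => exact ⟨∅, by simp, fun V _ _ => zero_mem V⟩
    | one => exact ⟨∅, by simp, fun V _ _ => one_mem V⟩
    | add x y _ _ hx hy =>
      obtain ⟨S, hS, hx⟩ := hx
      obtain ⟨T, hT, hy⟩ := hy
      exact ⟨S ∪ T, fun s hs => (Finset.mem_union.1 hs).elim (hS s) (hT s), fun V hV hE => add_mem
        (hx V (fun s hs => hV s (Finset.mem_union_left _ hs)) hE) (hy V (fun s hs => hV s (Finset.mem_union_right _ hs)) hE)⟩
    | neg x _ hx =>
      obtain ⟨S, hS, hx⟩ := hx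
      exact ⟨S, hS, fun V hV hE => neg_mem (hx V hV hE)⟩
    | mul x y _ _ hx hy =>
      obtain ⟨S, hS, hx⟩ := hx
      obtain ⟨T, hT, hy⟩ := hy
      exact ⟨S ∪ T, fun s hs => (Finset.mem_union.1 hs).elim (hS s) (hT s), fun V hV hE => mul_mem
        (hx V (fun s hs => hV s (Finset.mem_union_left _ hs)) hE) (hy V (fun s hs => hV s (Finset.mem_union_right _ hs)) hE)⟩
  choose S hS hmem using fun i => hfin _ (p.coeff i).2
  refine ⟨(Finset.range (p.natDegree + 1)).biUnion S, fun s hs => ?_, fun V hV hE => ?_⟩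
  · obtain ⟨i, -, hi⟩ := Finset.mem_biUnion.1 hs
    exact hS i s hi
  · have hcoef : ∀ i, ((p.coeff i : Subring.closure G) : K) ∈ V.toSubring := fun i => by
      by_cases hi : i ≤ p.natDegree
      · exact hmem i V (fun s hs => hV s (Finset.mem_biUnion.2 ⟨i, Finset.mem_range.2 (Nat.lt_succ_of_le hi), hs⟩)) hE
      · rw [Polynomial.coeff_eq_zero_of_natDegree_lt (lt_of_not_ge hi)]
        exact zero_mem _
    have h2 : IsIntegral V c := by
      refine ⟨(p.map (Subring.closure G).subtype).toSubring V.toSubring ?_,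
        (Polynomial.monic_toSubring _ _ _).2 (hp.map _), ?_⟩
      · intro x hx
        obtain ⟨i, -, rfl⟩ := Polynomial.mem_coeffs_iff.1 hx
        rw [Polynomial.coeff_map]
        exact hcoef i
      · rw [← Polynomial.eval_map]
        show (Polynomial.map V.toSubring.subtype _).eval c = 0
        rw [Polynomial.map_toSubring, Polynomial.eval_map]
        exact hpc
    obtain ⟨y, hy⟩ := IsIntegrallyClosed.isIntegral_iff.1 h2
    exact hy ▸ y.2

end Field

variable {R : CommRingCat.{u}} [IsDomain R]

local notation "KK" => Scheme.functionField (Spec R)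

/-- Values of the data near the points of a model with solvable principal parts glue. -/
theorem solv_glue (M : Model (Spec R)) [IsProper M.G] (hMn : Pi1.IsNormalScheme M.Z) (hsol : Sol (locRing M))
    {n : ℕ} {E : Fin n → Finset KK} {a : Fin n → KK}
    (hc : Compatible E a (algebraMap R KK).range) (h : ∀ w, Solv E a (locRing M w)) :
    Solv E a (algebraMap R KK).range := by
  classical
  choose g hg using h
  have hbase : ∀ (w : M.Z) (V : ValuationSubring KK), locRing M w ≤ V.toSubring →
      (algebraMap R KK).range ≤ V.toSubring := fun w V hV => by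
    rintro _ ⟨r, rfl⟩
    exact hV (RatSing.map_mem_locRing M w r)
  have hdat : IsDatum (locRing M) g := by
    intro x
    have hev : ∀ k, ∀ᶠ y in 𝓝 x, ∀ V : ValuationSubring KK, locRing M y ≤ V.toSubring →
        (∀ e ∈ E k, e ∈ V) → g x - a k ∈ V := fun k => by
      obtain ⟨S, hS, hSV⟩ := exists_finset (locRing M x) (E k) (c := g x - a k) fun V hV hE => hg x V hV k hE
      have : ∀ᶠ y in 𝓝 x, ∀ s ∈ S, s ∈ locRing M y :=
        (eventually_all_finset S).2 fun s hs => (RatUp.isOpen_mem M s).mem_nhds (hS s hs)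
      filter_upwards [this] with y hy V hV hE
      exact hSV V (fun s hs => hV (hy s hs)) hE
    filter_upwards [eventually_all.2 hev] with y hy
    refine mem_locRing_of_forall M y (hMn y).2 _ fun V hV => ?_
    obtain ⟨k, hk⟩ := hc.1 V (hbase y V hV)
    have h1 := sub_mem (hy k V hV hk) (hg y V hV k hk)
    rwa [sub_sub_sub_cancel_right] at h1
  obtain ⟨k₀, hk₀⟩ := hsol g hdat
  refine ⟨k₀, fun V hV l hl => ?_⟩
  obtain ⟨w, hw⟩ := exists_ctr M V fun r => hV ⟨r, rfl⟩
  have h1 := add_mem (hw.1 (hk₀ w)) (hg w V hw.1 l hl)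
  rwa [sub_add_sub_cancel] at h1

end Groth.Agent.RatCompl
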