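import Mathlib
import Groth.Agent.RatCompl.Base
import Groth.Agent.RatCompl.Glue
import Groth.Agent.RatSing.Exceptional
import Groth.Agent.RatUp.Main
import Groth.Agent.CplFib6.GeomRedFormal
import Groth.Agent.QCoh.FlatBC
import Groth.Agent.QCoh.OpenSub
import Groth.Agent.SchTop.Closed
import Groth.Agent.BlowUpLib.Glue
import Groth.Agent.H23.Chern.CoFrame

/-!
# One blow-up above an unramified flat extension of a rational singularity
-/

set_option autoImplicit false
set_option linter.style.haveILetI false
set_option linter.unusedSectionVars false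
set_option backward.isDefEq.respectTransparency false
set_option backward.isDefEq.respectTransparency.types false
set_option maxHeartbeats 800000

universe u

open CategoryTheory CategoryTheory.Limits AlgebraicGeometry TopologicalSpace IsLocalRing TensorProduct
open Groth.Agent.NormSeq (Model locRing)
open Groth.Agent.Sol

noncomputable section

namespace Groth.Agent.RatCompl

/-- A rational singularity below a local ring, with unramified flat extension and equal residue fields. -/
structure Witness (R : CommRingCat.{u}) [IsLocalRing R] where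
  /-- The rational singularity. -/
  A : CommRingCat.{u}
  [dA : IsDomain A]
  [lA : IsLocalRing A]
  [nA : IsNoetherianRing A]
  [iA : IsIntegrallyClosed A]
  /-- The extension. -/
  φ : A ⟶ R
  flat : φ.hom.Flat
  maxMap : (maximalIdeal A).map φ.hom = maximalIdeal R
  resLift : ∀ r, ∃ a, r - φ a ∈ maximalIdeal R
  nagata : CAlg.IsNagata A
  rat : Curv2.IsRationalSing A
  dim : ringKrullDim A = 2

attribute [instance] Witness.dA Witness.lA Witness.nA Witness.iA

/-- The local rings of a scheme of finite type over a ring are essentially of finite type. -/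
theorem essFiniteType_ι {A : Type u} [CommRing A] {X : Scheme.{u}} (b : X ⟶ Spec (CommRingCat.of A))
    [LocallyOfFiniteType b] (x : X) : (FibrePP.ι b x).EssFiniteType := by
  obtain ⟨U, hU, hxU, -⟩ := exists_isAffineOpen_mem_and_subset (x := x) (U := ⊤) trivial
  obtain ⟨φ, hφ⟩ := Spec.map_surjective (hU.fromSpec ≫ b)
  haveI : LocallyOfFiniteType (Spec.map φ) := hφ ▸ inferInstance
  have h1 : φ.hom.FiniteType := (HasRingHomProperty.Spec_iff (P := @LocallyOfFiniteType)).1 inferInstance
  have h2 : CommRingCat.ofHom (FibrePP.ι b x) = φ ≫ X.presheaf.germ U x hxU := by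
    apply Spec.map_injective
    rw [FibrePP.specMap_ι, Spec.map_comp, hφ, ← Category.assoc]
    congr 1
    exact (hU.fromSpecStalk_eq_fromSpecStalk hxU).symm
  rw [show FibrePP.ι b x = (X.presheaf.germ U x hxU).hom.comp φ.hom from congrArg (fun k => k.hom) h2]
  refine RingHom.EssFiniteType.comp (RingHom.FiniteType.essFiniteType h1) ?_
  letI := X.presheaf.algebra_section_stalk ⟨x, hxU⟩
  haveI := hU.isLocalization_stalk ⟨x, hxU⟩
  exact Algebra.EssFiniteType.of_isLocalization (X.presheaf.stalk x) (hU.primeIdealOf ⟨x, hxU⟩).asIdeal.primeCompl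

/-- Elements of the base in the function field, through a model. -/
theorem toK_ι {R : CommRingCat.{u}} [IsDomain R] (M : Model (Spec R)) (x : M.Z) (r : R) :
    M.toKHom x (FibrePP.ι M.G x r) = algebraMap R (Spec R).functionField r := by
  have h1 : CommRingCat.ofHom (FibrePP.ι M.G x) ≫ M.toKHom x =
      CommRingCat.ofHom (algebraMap R (Spec R).functionField) := by
    apply Spec.map_injective
    rw [Spec.map_comp, FibrePP.specMap_ι, ← Category.assoc]
    erw [M.spec_toK, M.genHom_G, Spec.fromSpecStalk_eq']
    rfl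
  exact congrArg (fun k => k.hom r) h1

/-- The first cohomology of the structure sheaf of a flat base change. -/
theorem hh_baseChange {A R : Type u} [CommRing A] [CommRing R] [Algebra A R] [Module.Flat A R] {X : Scheme.{u}}
    (b : X ⟶ Spec (CommRingCat.of A)) [IsProper b] (h : Subsingleton (Coh.HH X (Coh.structureModule X) 1)) :
    Subsingleton (Coh.HH (pullback b (cR A R)) (Coh.structureModule (pullback b (cR A R))) 1) := by
  haveI : CompactSpace X := QuasiCompact.compactSpace_of_compactSpace b
  haveI : QuasiSeparatedSpace X := quasiSeparatedSpace_of_quasiSeparated b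
  let p := pullback.fst b (cR A R)
  refine QCoh.subsingleton_HH_of_iso (H23.Chern.pullUnit p) 1 ?_
  letI := QCoh.modHH (Coh.toGlobal b) (Coh.structureModule X) 1
  letI := QCoh.modHH (Coh.toGlobal (pullback.snd b (cR A R))) ((Scheme.Modules.pullback p).obj (Coh.structureModule X)) 1
  obtain ⟨e⟩ := QCoh.HH_flatBaseChange (A := A) (B := R) (φ := p) (pA := b) (pB := pullback.snd b (cR A R))
    (IsPullback.of_hasPullback b (cR A R)) (M := Coh.structureModule X) QCoh.isQCoh_structureModule 1
  haveI : Subsingleton (R ⊗[A] Coh.HH X (Coh.structureModule X) 1) := by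
    refine subsingleton_of_forall_eq 0 fun z => ?_
    induction z using TensorProduct.induction_on with
    | zero => rfl
    | tmul a c => rw [Subsingleton.elim c 0, tmul_zero]
    | add a c ha hc => rw [ha, hc, add_zero]
  exact e.toEquiv.symm.subsingleton

variable {R : CommRingCat.{u}} [IsDomain R] [IsLocalRing R] [IsNoetherianRing R] [IsIntegrallyClosed R]

/-- Local rings of points of dimension two on the model are again above rational singularities. -/
theorem exists_step (hdim : ringKrullDim R = 2) (W : Witness R) :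
    ∃ M : Model (Spec R), IsProper M.G ∧ Pi1.IsNormalScheme M.Z ∧ Sol (locRing M) ∧
      ∀ w : M.Z, IsNoetherianRing (M.Z.presheaf.stalk w) ∧
        (ringKrullDim (M.Z.presheaf.stalk w) ≤ 1 ∨
          (ringKrullDim (M.Z.presheaf.stalk w) = 2 ∧ Nonempty (Witness (M.Z.presheaf.stalk w)) ∧
            ∃ γ ∈ maximalIdeal (M.Z.presheaf.stalk w), ∀ r ∈ maximalIdeal R, γ ∣ FibrePP.ι M.G w r)) := by
  let A := W.A
  letI : Algebra A R := W.φ.hom.toAlgebra
  haveI : Module.Flat A R := W.flat
  have hmax : (maximalIdeal A).map (algebraMap A R) = maximalIdeal R := W.maxMap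
  have hres : ∀ r : R, ∃ a : A, r - algebraMap A R a ∈ maximalIdeal R := W.resLift
  have hdA : ringKrullDim A = 2 := W.dim
  obtain ⟨X, b, hb⟩ : ∃ (X : Scheme.{u}) (b : X ⟶ Spec A), BlowUp.IsBlowUp b (BlowUpLib.centre (A := A) (maximalIdeal A)) :=
    BlowUpLib.exists_blowUp _
  obtain ⟨hXi, hbp, hXn, U, hU, hiso, hUc⟩ := RatSing.blowUp_facts hb W.nagata hdA W.rat
  haveI := hXi
  haveI : IsProper b := hbp
  haveI : IsIso (b ∣_ U) := hiso
  have hX2 : ∀ x : X, ringKrullDim (X.presheaf.stalk x) ≤ 2 := fun x =>
    (SchTop.ringKrullDim_stalk_le x).trans ((RatSing.topologicalKrullDim_le_two b hdA hU).trans (by norm_num))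
  haveI : IsLocallyNoetherian X := LocallyOfFiniteType.isLocallyNoetherian b
  let q := pullback.snd b (cR A R)
  let p := pullback.fst b (cR A R)
  obtain ⟨hint, hYn⟩ := isIntegral_bc hmax hres hdA hdim b hXn hX2 hU hUc
  haveI := hint
  have hne : ((U' (R := R) (U := U)) : Set ↥(Spec R)).Nonempty :=
    ⟨⟨⊥, Ideal.isPrime_bot⟩, mem_U' hmax hUc fun h =>
      RatSing.maximalIdeal_ne_bot (A := R) hdim (congrArg PrimeSpectrum.asIdeal h).symm⟩
  obtain ⟨hgen, hbir⟩ := RatSing.birational_of_isIso (X := pullback b (cR A R)) (Y := Spec R) q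
    ⟨U' (R := R) (U := U), hne, inferInstance⟩
  let N : Model (Spec R) := { Z := pullback b (cR A R), G := q, gen := hgen, bir := hbir }
  refine ⟨N, inferInstanceAs (IsProper q), hYn, (sol_locRing_iff N).2 (sol_of_hh ?_), fun y => ?_⟩
  · exact hh_baseChange b (W.rat X b hbp hXi hXn ⟨U, hU, hiso⟩)
  haveI : IsNoetherianRing (N.Z.presheaf.stalk y) :=
    inferInstanceAs (IsNoetherianRing ((pullback b (cR A R)).presheaf.stalk y))
  refine ⟨inferInstance, or_iff_not_imp_left.2 fun hd => ?_⟩
  have hy : q y = closedPoint R := by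
    by_contra h
    exact hd (off_fibre hmax hdim b hUc h).2
  have hle := dim_le_two hmax hres hdim b hX2 hUc y
  have hd2 : ringKrullDim ((pullback b (cR A R)).presheaf.stalk y) = 2 := by
    refine le_antisymm hle ?_
    change ¬ ringKrullDim ((pullback b (cR A R)).presheaf.stalk y) ≤ 1 at hd
    generalize ringKrullDim ((pullback b (cR A R)).presheaf.stalk y) = d at hd hle
    cases d with
    | bot => exact absurd bot_le hd
    | coe c =>
      have h1 : ¬ c ≤ 1 := fun h => hd (WithBot.coe_le_coe.2 h)
      exact WithBot.coe_le_coe.2 ((Order.add_one_le_of_lt (not_le.1 h1)).trans' (le_of_eq (by rfl)))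
  have hdx : ringKrullDim (X.presheaf.stalk (p y)) = 2 := (on_fibre hmax hres b hy).symm.trans hd2
  haveI := (hXn (p y)).1
  haveI := (hXn (p y)).2
  let A' := X.presheaf.stalk (p y)
  letI : Algebra A A' := (FibrePP.ι b (p y)).toAlgebra
  haveI : Algebra.EssFiniteType A A' := essFiniteType_ι b (p y)
  have hpx : b (p y) = closedPoint A := (fst_over hmax b).2 hy
  have hmA : ∀ a ∈ maximalIdeal A, FibrePP.ι b (p y) a ∈ maximalIdeal A' := fun a ha =>
    (FibrePP.mem_point_iff b (p y) a).1 (by rw [hpx]; exact ha)
  haveI : IsLocalHom (algebraMap A A') := ⟨fun a ha => by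
    by_contra h
    exact (mem_maximalIdeal _).1 (hmA a ((mem_maximalIdeal a).2 h)) ha⟩
  haveI : IsDomain A := W.dA
  obtain ⟨hgX, hbX⟩ := RatSing.birational_of_isIso (X := X) (Y := Spec A) b ⟨U, hU, hiso⟩
  let MX : Model (Spec A) := { Z := X, G := b, gen := hgX, bir := hbX }
  have hinj : Function.Injective (algebraMap A A') := fun a a' h => IsFractionRing.injective A (Spec A).functionField (by
    rw [← toK_ι MX (p y), ← toK_ι MX (p y)]
    exact congrArg _ h)
  have hfrac : ∀ t : A', ∃ a a' : A, a' ≠ 0 ∧ algebraMap A A' a' * t = algebraMap A A' a := fun t => by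
    obtain ⟨a, a', ha', h⟩ := IsFractionRing.div_surjective (A := A) (MX.toKHom (p y) t)
    refine ⟨a, a', nonZeroDivisors.ne_zero ha', MX.toK_injective (p y) ?_⟩
    show MX.toKHom (p y) (FibrePP.ι MX.G (p y) a' * t) = MX.toKHom (p y) (FibrePP.ι MX.G (p y) a)
    rw [map_mul, toK_ι MX (p y), toK_ι MX (p y), ← h,
      mul_div_cancel₀ _ ((map_ne_zero_iff _ (IsFractionRing.injective A (Spec A).functionField)).2 (nonZeroDivisors.ne_zero ha'))]
  refine ⟨hd2, ⟨{
      A := A'
      φ := p.stalkMap y
      flat := Flat.stalkMap p y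
      maxMap := (unr_bc hmax hres b hy).1
      resLift := (unr_bc hmax hres b hy).2
      nagata := CplFib6.isNagata_of_essFiniteType A A' W.nagata
      rat := RatUp.isRationalSing_ext A A' W.nagata hdA W.rat hinj hfrac hdx
      dim := hdx }⟩, ?_⟩
  obtain ⟨γ, -, hγ⟩ := H23.StalkIdeal.exists_gen hb.1 (p y)
  have hsI : ∀ a ∈ maximalIdeal A, γ ∣ FibrePP.ι b (p y) a := fun a ha => by
    rw [← Ideal.mem_span_singleton, ← hγ, ← pow_one ((BlowUpLib.centre (A := A) (maximalIdeal A)).comap b)]
    have h1 := RatSing.sI_pow_centre MX (maximalIdeal A) 1 (p y)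
    rw [h1, pow_one, show RatSing.strStalk MX (p y) = FibrePP.ι b (p y) from RingHom.ext fun a =>
      MX.toK_injective (p y) ((RatSing.toK_strStalk MX (p y) a).trans (toK_ι MX (p y) a).symm)]
    exact Ideal.mem_map_of_mem _ ha
  have hγm : γ ∈ maximalIdeal A' := by
    refine (mem_maximalIdeal γ).2 fun hu => ?_
    have hle' : H23.StalkIdeal.sI ((BlowUpLib.centre (A := A) (maximalIdeal A)).comap b) (p y) ≤ maximalIdeal A' := by
      rw [← pow_one ((BlowUpLib.centre (A := A) (maximalIdeal A)).comap b), RatSing.sI_pow_centre MX (maximalIdeal A) 1 (p y),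
        pow_one, show RatSing.strStalk MX (p y) = FibrePP.ι b (p y) from RingHom.ext fun a =>
          MX.toK_injective (p y) ((RatSing.toK_strStalk MX (p y) a).trans (toK_ι MX (p y) a).symm), Ideal.map_le_iff_le_comap]
      exact hmA
    rw [hγ, Ideal.span_singleton_eq_top.2 hu] at hle'
    exact (maximalIdeal.isMaximal A').ne_top (top_le_iff.1 hle')
  refine ⟨p.stalkMap y γ, ?_, fun r hr => ?_⟩
  · rw [← (unr_bc hmax hres b hy).1]
    exact Ideal.mem_map_of_mem _ hγm
  · rw [← Ideal.mem_span_singleton]
    have hle' : (maximalIdeal R).map (FibrePP.ι q y) ≤ Ideal.span {p.stalkMap y γ} := by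
      rw [← hmax, Ideal.map_map, Ideal.map_le_iff_le_comap]
      intro a ha
      show FibrePP.ι q y (algebraMap A R a) ∈ Ideal.span {p.stalkMap y γ}
      rw [← ι_compat p b q (algebraMap A R) pullback.condition y a, Ideal.mem_span_singleton]
      exact map_dvd _ (hsI a ha)
    exact hle' (Ideal.mem_map_of_mem _ hr)

end Groth.Agent.RatCompl
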