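import Mathlib
import Groth.Agent.RatCompl.Step
import Groth.Agent.NormSeq.Val

/-!
# Unramified flat extensions of rational singularities are rational
-/

set_option autoImplicit false
set_option linter.style.haveILetI false
set_option linter.unusedSectionVars false
set_option backward.isDefEq.respectTransparency false
set_option backward.isDefEq.respectTransparency.types false
set_option maxHeartbeats 800000

universe u

open CategoryTheory CategoryTheory.Limits AlgebraicGeometry TopologicalSpace IsLocalRing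
open Groth.Agent.NormSeq (Model locRing)

noncomputable section

namespace Groth.Agent.RatCompl

/-- Witnesses move along isomorphisms. -/
theorem witness_of_ringEquiv {R S : CommRingCat.{u}} [IsLocalRing R] [IsLocalRing S] (e : R ≃+* S)
    (h : Nonempty (Witness R)) : Nonempty (Witness S) := by
  obtain ⟨W⟩ := h
  have hm : (maximalIdeal R).map (e : R →+* S) = maximalIdeal S :=
    eq_maximalIdeal (Ideal.map_isMaximal_of_equiv e)
  exact ⟨{
    A := W.A
    φ := W.φ ≫ CommRingCat.ofHom (e : R →+* S)
    flat := RingHom.Flat.comp W.flat (RingHom.Flat.of_bijective e.bijective)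
    maxMap := by
      show (maximalIdeal W.A).map ((e : R →+* S).comp W.φ.hom) = _
      rw [← Ideal.map_map, W.maxMap, hm]
    resLift := fun s => by
      obtain ⟨a, ha⟩ := W.resLift (e.symm s)
      refine ⟨a, ?_⟩
      show s - e (W.φ a) ∈ maximalIdeal S
      rw [← hm]
      convert Ideal.mem_map_of_mem (e : R →+* S) ha using 1
      rw [map_sub]
      exact congrArg (· - e (W.φ a)) (e.apply_symm_apply s).symm
    nagata := W.nagata
    rat := W.rat
    dim := W.dim }⟩

/-- One dimensional normal Noetherian local domains are valuation rings. -/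
theorem valuationRing_of_dim_le_one (T : Type u) [CommRing T] [IsDomain T] [IsLocalRing T] [IsNoetherianRing T]
    [IsIntegrallyClosed T] (h : ringKrullDim T ≤ 1) : ValuationRing T := by
  haveI : Ring.KrullDimLE 1 T := Ring.krullDimLE_iff.mpr h
  haveI : Ring.DimensionLEOne T :=
    ⟨fun {p} hp0 hp => Ring.krullDimLE_one_iff_of_noZeroDivisors.mp inferInstance p hp0 hp⟩
  have hD : IsDedekindDomain T := {}
  exact ((tfae_of_isNoetherianRing_of_isLocalRing_of_isDomain T).out 2 1
    (a := IsDedekindDomain T) (b := ValuationRing T) rfl rfl).mp hD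

section Transport

variable {K L : Type u} [Field K] [Field L] (e : K ≃+* L) {B : Subring K} {B' : Subring L}
  (hB : ∀ c, c ∈ B ↔ e c ∈ B') {n : ℕ} {E : Fin n → Finset K} {a : Fin n → K}

open scoped Classical in
include hB in
theorem compatible_map (h : Compatible E a B) :
    Compatible (fun k => (E k).image e) (fun k => e (a k)) B' := by
  have key : ∀ V : ValuationSubring L, B' ≤ V.toSubring → B ≤ (V.comap e.toRingHom).toSubring :=
    fun V hV c hc => hV ((hB c).1 hc)
  refine ⟨fun V hV => ?_, fun V hV k l hk hl => ?_⟩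
  · obtain ⟨k, hk⟩ := h.1 _ (key V hV)
    refine ⟨k, fun x hx => ?_⟩
    obtain ⟨y, hy, rfl⟩ := Finset.mem_image.1 hx
    exact hk y hy
  · have h1 := h.2 _ (key V hV) k l (fun y hy => hk _ (Finset.mem_image_of_mem _ hy))
      (fun y hy => hl _ (Finset.mem_image_of_mem _ hy))
    rw [← map_sub]
    exact h1

open scoped Classical in
include hB in
theorem solv_of_map (h : Solv (fun k => (E k).image e) (fun k => e (a k)) B') : Solv E a B := by
  obtain ⟨t, ht⟩ := h
  refine ⟨e.symm t, fun V hV k hk => ?_⟩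
  have h1 := ht (V.comap e.symm.toRingHom)
    (fun c hc => hV ((hB (e.symm c)).2 (by rw [RingEquiv.apply_symm_apply]; exact hc))) k fun x hx => by
      obtain ⟨y, hy, rfl⟩ := Finset.mem_image.1 hx
      show e.symm (e y) ∈ V
      rw [RingEquiv.symm_apply_apply]
      exact hk y hy
  change e.symm (t - e (a k)) ∈ V at h1
  rwa [map_sub, RingEquiv.symm_apply_apply] at h1

end Transport

variable {L : Type u} [Field L] {n : ℕ} (E : Fin n → Finset L) (a : Fin n → L)

/-- A local ring where the data have no common value. -/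
structure Bad where
  /-- The ring. -/
  S : Subring L
  [loc : IsLocalRing S]
  [noeth : IsNoetherianRing S]
  int : ∀ x : L, IsIntegral S x → x ∈ S
  frac : ∀ x : L, ∃ p q : S, (q : L) ≠ 0 ∧ x * q = p
  dim : ringKrullDim S = 2
  wit : Nonempty (Witness (CommRingCat.of S))
  compat : Compatible E a S
  bad : ¬ Solv E a S

attribute [instance] Bad.loc Bad.noeth

variable {E a}

/-- The next bad local ring, in terms of a copy of the ring. -/
theorem exists_next_aux {R : CommRingCat.{u}} [IsDomain R] [IsLocalRing R] [IsNoetherianRing R] [IsIntegrallyClosed R]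
    (j : R →+* L) (hj : Function.Injective j) (hfr : ∀ x : L, ∃ p q : R, j q ≠ 0 ∧ x * j q = j p)
    (hdim : ringKrullDim R = 2) (W : Witness R) (hc₀ : Compatible E a j.range) (hbad : ¬ Solv E a j.range) :
    ∃ T' : Bad E a, j.range ≤ T'.S ∧ ∃ γ : T'.S, γ ∈ maximalIdeal T'.S ∧
      ∀ x : R, x ∈ maximalIdeal R → ∃ y : T'.S, j x = γ * y := by
  classical
  letI := j.toAlgebra
  haveI : FaithfulSMul R L := (faithfulSMul_iff_algebraMap_injective R L).2 hj
  haveI : IsFractionRing R L := IsFractionRing.of_field _ _ fun z => by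
    obtain ⟨p, q, hq, h⟩ := hfr z
    exact ⟨p, q, (eq_div_iff hq).2 h⟩
  let φ := IsLocalization.algEquiv (nonZeroDivisors R) L (Spec R).functionField
  let e : L ≃+* (Spec R).functionField := φ.toRingEquiv
  have he : ∀ s : R, e (j s) = algebraMap R (Spec R).functionField s := fun s => φ.commutes s
  obtain ⟨M, hMp, hMn, hsol, hpt⟩ := exists_step (R := R) hdim W
  haveI := hMp
  have hrange : ∀ c, c ∈ j.range ↔ e c ∈ (algebraMap R (Spec R).functionField).range := fun c =>
    ⟨fun ⟨s, hs⟩ => ⟨s, by rw [← hs, he]⟩, fun ⟨s, hs⟩ => ⟨s, e.injective ((he s).trans hs)⟩⟩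
  have hc := compatible_map e hrange hc₀
  obtain ⟨w, hw⟩ : ∃ w, ¬ Solv (fun k => (E k).image e) (fun k => e (a k)) (locRing M w) := by
    by_contra! h
    exact hbad (solv_of_map e hrange (solv_glue M hMn hsol hc h))
  obtain ⟨hN, hcase⟩ := hpt w
  haveI := hN
  haveI := (hMn w).1
  haveI := (hMn w).2
  have hcw : Compatible (fun k => (E k).image e) (fun k => e (a k)) (locRing M w) := hc.mono (by
    rintro _ ⟨r, rfl⟩
    exact RatSing.map_mem_locRing M w r)
  rcases hcase with hd | ⟨hd, hwit, γ, hγm, hγ⟩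
  · refine absurd (solv_of_total hcw fun x => ?_) hw
    haveI := valuationRing_of_dim_le_one (M.Z.presheaf.stalk w) hd
    obtain ⟨⟨_, p, rfl⟩, ⟨_, q, rfl⟩, hq, hpq⟩ := NormSeq.toK_fraction M w x
    change M.toKHom w q ≠ 0 at hq
    change x * M.toKHom w q = M.toKHom w p at hpq
    obtain ⟨c, hc' | hc'⟩ := ValuationRing.cond p q
    · right
      refine ⟨c, ?_⟩
      by_cases hx : x = 0
      · have h0 : p = 0 := M.toK_injective w (by rw [map_zero, ← hpq, hx, zero_mul])
        exact absurd (by rw [← hc', h0, zero_mul, map_zero]) hq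
      · refine (inv_eq_of_mul_eq_one_right ?_).symm
        refine mul_right_cancel₀ hq ?_
        show x * M.toKHom w c * M.toKHom w q = 1 * M.toKHom w q
        rw [one_mul, mul_right_comm, hpq, ← map_mul, hc']
    · left
      refine ⟨c, mul_right_cancel₀ hq ?_⟩
      show M.toKHom w c * M.toKHom w q = x * M.toKHom w q
      rw [hpq, ← map_mul, mul_comm, hc']
  · let χ : M.Z.presheaf.stalk w →+* L := (e.symm : _ →+* L).comp (M.toKHom w).hom
    have hχ : Function.Injective χ := e.symm.injective.comp (M.toK_injective w)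
    let es : M.Z.presheaf.stalk w ≃+* χ.range :=
      RingEquiv.ofBijective χ.rangeRestrict ⟨fun x y h => hχ (congrArg Subtype.val h), χ.rangeRestrict_surjective⟩
    have hmem : ∀ c, c ∈ χ.range ↔ e c ∈ locRing M w := fun c =>
      ⟨fun ⟨t, ht⟩ => ⟨t, by rw [← ht]; exact (e.apply_symm_apply _).symm⟩,
        fun ⟨t, ht⟩ => ⟨t, by show e.symm (M.toKHom w t) = c; rw [show M.toKHom w t = e c from ht, e.symm_apply_apply]⟩⟩
    have hle : j.range ≤ χ.range := fun c ⟨s, hs⟩ => (hmem c).2 (by
      rw [← hs, he]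
      exact RatSing.map_mem_locRing M w _)
    haveI : IsLocalRing χ.range := IsLocalRing.of_surjective' χ.rangeRestrict χ.rangeRestrict_surjective
    haveI : IsNoetherianRing χ.range := isNoetherianRing_of_ringEquiv _ es
    haveI : IsIntegrallyClosed χ.range := IsIntegrallyClosed.of_equiv es
    have hfrac : ∀ x : L, ∃ p q : χ.range, (q : L) ≠ 0 ∧ x * q = p := fun x => by
      obtain ⟨p, q, hq, h⟩ := hfr x
      exact ⟨⟨j p, hle ⟨p, rfl⟩⟩, ⟨j q, hle ⟨q, rfl⟩⟩, hq, h⟩
    haveI : IsFractionRing χ.range L := IsFractionRing.of_field _ _ fun z => by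
      obtain ⟨p, q, hq, h⟩ := hfrac z
      exact ⟨p, q, (eq_div_iff hq).2 h⟩
    refine ⟨{
      S := χ.range
      int := fun x hx => by
        obtain ⟨y, rfl⟩ := IsIntegrallyClosed.isIntegral_iff.1 hx
        exact y.2
      frac := hfrac
      dim := (ringKrullDim_eq_of_ringEquiv es).symm.trans hd
      wit := witness_of_ringEquiv (S := CommRingCat.of χ.range) es hwit
      compat := hc₀.mono hle
      bad := fun h => hw (by
        obtain ⟨t, ht⟩ := h
        refine ⟨e t, fun V hV k hk => ?_⟩
        rw [← map_sub]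
        exact ht (V.comap e.toRingHom) (fun c hc' => hV ((hmem c).1 hc')) k fun y hy =>
          hk _ (Finset.mem_image_of_mem _ hy)) }, hle, es γ, ?_, fun x hx => ?_⟩
    · exact (mem_maximalIdeal _).2 fun hu => (mem_maximalIdeal γ).1 hγm (by simpa using hu.map es.symm)
    · obtain ⟨d, hd'⟩ := hγ x hx
      refine ⟨es d, e.injective ?_⟩
      rw [he x, map_mul]
      show _ = e (e.symm (M.toKHom w γ)) * e (e.symm (M.toKHom w d))
      rw [e.apply_symm_apply, e.apply_symm_apply, ← map_mul]
      exact ((congrArg _ hd'.symm).trans (toK_ι M w x)).symm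

/-- The next bad local ring. -/
theorem Bad.exists_next (T : Bad E a) : ∃ T' : Bad E a, T.S ≤ T'.S ∧
    ∃ γ : T'.S, γ ∈ maximalIdeal T'.S ∧ ∀ x : T.S, x ∈ maximalIdeal T.S → ∃ y : T'.S, (x : L) = γ * y := by
  haveI : IsFractionRing T.S L := IsFractionRing.of_field _ _ fun z => by
    obtain ⟨p, q, hq, h⟩ := T.frac z
    exact ⟨p, q, (eq_div_iff hq).2 h⟩
  haveI : IsIntegrallyClosed T.S := (isIntegrallyClosed_iff L).2 fun {x} hx => ⟨⟨x, T.int x hx⟩, rfl⟩
  haveI : IsIntegrallyClosed (CommRingCat.of T.S) := ‹IsIntegrallyClosed T.S›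
  haveI : IsNoetherianRing (CommRingCat.of T.S) := T.noeth
  haveI : IsLocalRing (CommRingCat.of T.S) := T.loc
  haveI : IsDomain (CommRingCat.of T.S) := inferInstanceAs (IsDomain T.S)
  obtain ⟨W⟩ := T.wit
  have hr : T.S.subtype.range = T.S := Subring.range_subtype _
  obtain ⟨T', h1, γ, h2, h3⟩ := exists_next_aux (E := E) (a := a) (R := CommRingCat.of T.S) T.S.subtype
    Subtype.coe_injective T.frac T.dim W (hr.symm ▸ T.compat) (hr.symm ▸ T.bad)
  exact ⟨T', hr ▸ h1, γ, h2, h3⟩

/-- There are no bad local rings. -/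
theorem Bad.elim (T : Bad E a) : False := by
  classical
  choose next hle hprinc using Bad.exists_next (E := E) (a := a)
  let seq : ℕ → Bad E a := fun m => Nat.rec T (fun _ t => next t) m
  let R : ℕ → Subring L := fun m => (seq m).S
  haveI : ∀ m, IsLocalRing (R m) := fun m => (seq m).loc
  haveI : IsNoetherianRing ↥(R 0) := (seq 0).noeth
  have hmono : Monotone R := monotone_nat_of_le_succ fun m => hle (seq m)
  have hval : ∀ x : L, ∃ m, x ∈ R m ∨ x⁻¹ ∈ R m := fun x =>
    @NormSeq.exists_mem L _ R (fun m => (seq m).loc) x (seq 0).noeth (show ringKrullDim ↥(R 0) ≤ 2 from (seq 0).dim.le) (seq 0).frac hmono (fun m => (seq m).int) fun m => hprinc (seq m)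
  let V : ValuationSubring L :=
    { carrier := {x | ∃ m, x ∈ R m}
      mul_mem' := fun {x y} ⟨m, hx⟩ ⟨k, hy⟩ => ⟨max m k, mul_mem (hmono (le_max_left m k) hx) (hmono (le_max_right m k) hy)⟩
      one_mem' := ⟨0, one_mem _⟩
      add_mem' := fun {x y} ⟨m, hx⟩ ⟨k, hy⟩ => ⟨max m k, add_mem (hmono (le_max_left m k) hx) (hmono (le_max_right m k) hy)⟩
      zero_mem' := ⟨0, zero_mem _⟩
      neg_mem' := fun {x} ⟨m, hx⟩ => ⟨m, neg_mem hx⟩
      mem_or_inv_mem' := fun x => (hval x).elim fun m hm => hm.imp (fun h => ⟨m, h⟩) fun h => ⟨m, h⟩ }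
  obtain ⟨k, hk⟩ := T.compat.1 V fun c hc => ⟨0, hc⟩
  choose idx hidx using hk
  refine (seq ((E k).attach.sup fun y => idx y.1 y.2)).bad (solv_of_subset (k := k) (seq _).compat fun y hy => ?_)
  exact hmono (Finset.le_sup (f := fun y : {y // y ∈ E k} => idx y.1 y.2) (Finset.mem_attach _ ⟨y, hy⟩)) (hidx y hy)

/-- Unramified flat extensions of rational singularities with the same residue field are rational. -/
theorem isRationalSing_of_witness (R : CommRingCat.{u}) [IsDomain R] [IsLocalRing R] [IsNoetherianRing R]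
    [IsIntegrallyClosed R] (hdim : ringKrullDim R = 2) (W : Witness R) : Curv2.IsRationalSing R := by
  refine RatUp.isRationalSing_of_ratVal (R := R) ((ratVal_iff _).2 fun n E a hc => by_contra fun hbad => ?_)
  let ρ := algebraMap R (Spec R).functionField
  let eR : R ≃+* ρ.range := RingEquiv.ofBijective ρ.rangeRestrict
    ⟨fun x y h => IsFractionRing.injective R (Spec R).functionField (congrArg Subtype.val h), ρ.rangeRestrict_surjective⟩
  haveI : IsLocalRing ρ.range := IsLocalRing.of_surjective' ρ.rangeRestrict ρ.rangeRestrict_surjective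
  haveI : IsNoetherianRing ρ.range := isNoetherianRing_of_ringEquiv _ eR
  haveI : IsIntegrallyClosed ρ.range := IsIntegrallyClosed.of_equiv eR
  have hfrac : ∀ x : (Spec R).functionField, ∃ p q : ρ.range, (q : (Spec R).functionField) ≠ 0 ∧ x * q = p := fun x => by
    obtain ⟨p, q, hq, h⟩ := IsFractionRing.div_surjective (A := R) x
    have hq0 : ρ q ≠ 0 := (map_ne_zero_iff _ (IsFractionRing.injective R (Spec R).functionField)).2 (nonZeroDivisors.ne_zero hq)
    exact ⟨⟨_, p, rfl⟩, ⟨_, q, rfl⟩, hq0, by rw [← h]; exact div_mul_cancel₀ _ hq0⟩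
  haveI : IsFractionRing ρ.range (Spec R).functionField := IsFractionRing.of_field _ _ fun z => by
    obtain ⟨p, q, hq, h⟩ := hfrac z
    exact ⟨p, q, (eq_div_iff hq).2 h⟩
  exact Bad.elim (E := E) (a := a) {
    S := ρ.range
    int := fun x hx => by
      obtain ⟨y, rfl⟩ := IsIntegrallyClosed.isIntegral_iff.1 hx
      exact y.2
    frac := hfrac
    dim := (ringKrullDim_eq_of_ringEquiv eR).symm.trans hdim
    wit := witness_of_ringEquiv (S := CommRingCat.of ρ.range) eR ⟨W⟩
    compat := hc
    bad := hbad }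

end Groth.Agent.RatCompl
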