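import Mathlib
import Groth.Agent.RatCompl.Chain
import Groth.Agent.FlatLoc6.Cpl
import Groth.Agent.S0547
import Groth.Prelude.Def_Curv2

/-!
# The completion of a rational singularity as an unramified flat extension
-/

set_option autoImplicit false
set_option linter.style.haveILetI false
set_option maxHeartbeats 800000

universe u

open IsLocalRing

noncomputable section

namespace Groth.Agent.RatCompl

variable (A : Type u) [CommRing A] [IsLocalRing A] [IsNoetherianRing A]

theorem cpl_maxMap :
    (maximalIdeal A).map (algebraMap A (Curv2.cpl A)) = maximalIdeal (Curv2.cpl A) :=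
  (AdicCompletion.maximalIdeal_eq_map_of_fg (IsNoetherian.noetherian _)).symm

theorem cpl_resLift (c : Curv2.cpl A) : ∃ a : A, c - algebraMap A (Curv2.cpl A) a ∈ maximalIdeal (Curv2.cpl A) := by
  obtain ⟨a, ha⟩ := Submodule.Quotient.mk_surjective _ (AdicCompletion.eval (maximalIdeal A) A 1 c)
  refine ⟨a, ?_⟩
  have h0 : AdicCompletion.eval (maximalIdeal A) A 1 (c - algebraMap A (Curv2.cpl A) a) = 0 := by
    rw [map_sub, sub_eq_zero, ← ha]
    rfl
  rw [← LinearMap.mem_ker, ← AdicCompletion.pow_smul_top_eq_ker_eval (IsNoetherian.noetherian _), pow_one,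
    Ideal.smul_top_eq_map] at h0
  rw [← cpl_maxMap]
  exact h0

theorem dim_cpl : ringKrullDim (Curv2.cpl A) = ringKrullDim A := S0547.result A

variable [IsDomain A] [IsIntegrallyClosed A]

/-- The completion with its witness. -/
theorem witness_cpl (hN : CAlg.IsNagata A) (hdim : ringKrullDim A = 2) (hA : Curv2.IsRationalSing A) :
    Nonempty (Witness (CommRingCat.of (Curv2.cpl A))) :=
  ⟨{ A := CommRingCat.of A
     φ := CommRingCat.ofHom (algebraMap A (Curv2.cpl A))
     flat := RingHom.flat_algebraMap_iff.2 (AdicCompletion.flat_of_isNoetherian _)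
     maxMap := cpl_maxMap A
     resLift := cpl_resLift A
     nagata := hN
     rat := hA
     dim := hdim }⟩

end Groth.Agent.RatCompl
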