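import Mathlib
import Groth.Agent.RatCompl.Cpl
import Groth.Agent.GrLib8.HlvtNormal
import Groth.Agent.CplFib6.Excellent
import Groth.Agent.S9232
import Groth.Agent.S2652

/-!
# Completions of the local rings of the blow-up of a rational singularity
-/

set_option autoImplicit false
set_option linter.style.haveILetI false
set_option backward.isDefEq.respectTransparency false
set_option backward.isDefEq.respectTransparency.types false
set_option maxHeartbeats 800000

universe u

open CategoryTheory CategoryTheory.Limits AlgebraicGeometry TopologicalSpace IsLocalRing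

noncomputable section

namespace Groth.Agent.RatCompl

/-- The completion of an excellent normal local domain is integrally closed. -/
theorem isIntegrallyClosed_completion (A : Type u) [CommRing A] [IsDomain A] [IsLocalRing A] [IsNoetherianRing A]
    [IsIntegrallyClosed A] (hA : EGA4.IsExcellent A) : IsIntegrallyClosed (Curv2.cpl A) := by
  haveI : IsDomain (Curv2.cpl A) := GrLib8.HlvtNormal.isDomain_completion A hA
  haveI : IsNoetherianRing (Curv2.cpl A) := FlatLoc6.isNoetherianRing_cpl A
  have hN : EGA4.IsNormalRing (Curv2.cpl A) := FlatLoc6.normal_of_isNormalHom A _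
    (FlatLoc6.isNormalHom_of_isRegularHom (h := S0600.result A hA.2.2.1 (maximalIdeal A)))
    (fun p _ => ⟨IsLocalization.isDomain_localization p.primeCompl_le_nonZeroDivisors,
      isIntegrallyClosed_of_isLocalization _ p.primeCompl p.primeCompl_le_nonZeroDivisors⟩)
  exact IsIntegrallyClosed.of_localization_maximal fun p _ hp => (hN p).2

/-- Local rings of schemes of finite type over an excellent ring are excellent. -/
theorem isExcellent_stalk {R : Type u} [CommRing R] (hR : EGA4.IsExcellent R) {Y : Scheme.{u}}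
    (q : Y ⟶ Spec (CommRingCat.of R)) [LocallyOfFiniteType q] (y : Y) : EGA4.IsExcellent (Y.presheaf.stalk y) := by
  obtain ⟨U, hU, hyU, -⟩ := exists_isAffineOpen_mem_and_subset (x := y) (U := ⊤) trivial
  obtain ⟨φ, hφ⟩ := Spec.map_surjective (hU.fromSpec ≫ q)
  haveI : LocallyOfFiniteType (Spec.map φ) := hφ ▸ inferInstance
  letI := φ.hom.toAlgebra
  have hft : φ.hom.FiniteType := (HasRingHomProperty.Spec_iff (P := @LocallyOfFiniteType)).1 ‹LocallyOfFiniteType (Spec.map φ)›
  haveI : Algebra.FiniteType R Γ(Y, U) := hft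
  letI := Y.presheaf.algebra_section_stalk ⟨y, hyU⟩
  haveI := hU.isLocalization_stalk ⟨y, hyU⟩
  exact CplFib6.isExcellent_localization (CplFib6.isExcellent_of_finiteType hR Γ(Y, U))
    (hU.primeIdealOf ⟨y, hyU⟩).asIdeal.primeCompl _

/-- Flat maps with the same closed fibre give isomorphic completions. -/
theorem exists_cplEquiv {S T : CommRingCat.{u}} [IsLocalRing S] [IsLocalRing T] [IsNoetherianRing S]
    [IsNoetherianRing T] (g : S ⟶ T) [hl : IsLocalHom g.hom] (hfl : g.hom.Flat) (hg : Unr g) :
    Nonempty (Curv2.cpl T ≃+* Curv2.cpl S) := by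
  letI := g.hom.toAlgebra
  haveI : Module.Flat S T := hfl
  haveI : IsLocalHom (algebraMap S T) := hl
  obtain ⟨_, _, -⟩ := FlatLoc6.exists_cplHom S T
  have hk : Function.Bijective (ResidueField.map (algebraMap S T)) := by
    refine ⟨RingHom.injective _, fun z => ?_⟩
    obtain ⟨t, rfl⟩ := residue_surjective z
    obtain ⟨s, hs⟩ := hg.2 t
    exact ⟨residue S s, by rw [ResidueField.map_residue]; exact (Ideal.Quotient.eq.2 hs).symm⟩
  have hb := S9232.result S T hg.1 hk (algebraMap (EGA4.Cpl S) (EGA4.Cpl T)) (by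
    rw [← IsScalarTower.algebraMap_eq, ← IsScalarTower.algebraMap_eq])
  exact ⟨(RingEquiv.ofBijective _ hb).symm⟩

theorem normal_cpl_stalk {A R : Type u} [CommRing A] [CommRing R] [Algebra A R] [IsDomain A] [IsLocalRing A]
    [IsLocalRing R] [IsNoetherianRing A] [IsNoetherianRing R] [IsDomain R] [IsIntegrallyClosed R] [Module.Flat A R]
    (hmax : (maximalIdeal A).map (algebraMap A R) = maximalIdeal R)
    (hres : ∀ r : R, ∃ a : A, r - algebraMap A R a ∈ maximalIdeal R)
    (hdA : ringKrullDim A = 2) (hdR : ringKrullDim R = 2) (hR : EGA4.IsExcellent R)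
    {X : Scheme.{u}} [IsIntegral X] (b : X ⟶ Spec (CommRingCat.of A)) [IsProper b] (hXn : Pi1.IsNormalScheme X)
    (hX2 : ∀ x : X, ringKrullDim (X.presheaf.stalk x) ≤ 2)
    {U : (Spec (CommRingCat.of A)).Opens} (hU : (U : Set ↥(Spec (CommRingCat.of A))).Nonempty) [IsIso (b ∣_ U)]
    (hUc : ∀ t : ↥(Spec (CommRingCat.of A)), t ∉ U → t = closedPoint A) (x : X) (hx : b x = closedPoint A) :
    IsDomain (Curv2.cpl (X.presheaf.stalk x)) ∧ IsIntegrallyClosed (Curv2.cpl (X.presheaf.stalk x)) := by
  haveI : IsLocallyNoetherian X := LocallyOfFiniteType.isLocallyNoetherian b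
  obtain ⟨y, rfl, hy⟩ := Scheme.Pullback.exists_preimage_pullback (f := b) (g := cR A R) x (closedPoint R)
    (by rw [hx, cR_closedPoint hmax])
  obtain ⟨hint, hYn⟩ := isIntegral_bc hmax hres hdA hdR b hXn hX2 hU hUc
  haveI := (hYn y).1
  haveI := (hYn y).2
  have hexc := isExcellent_stalk hR (pullback.snd b (cR A R)) y
  haveI := GrLib8.HlvtNormal.isDomain_completion _ hexc
  haveI := isIntegrallyClosed_completion _ hexc
  obtain ⟨e⟩ := exists_cplEquiv ((pullback.fst b (cR A R)).stalkMap y) (Flat.stalkMap _ y) (unr_bc hmax hres b hy)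
  exact ⟨e.symm.toMulEquiv.isDomain _, IsIntegrallyClosed.of_equiv e⟩

end Groth.Agent.RatCompl
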